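import Cfsg.Agent.Lib.NineSection.One.Upper

/-!
# Invariant subgroups against the centralizer of an involution
-/

set_option autoImplicit false
set_option linter.style.haveILetI false
set_option linter.unusedSectionVars false

namespace Cfsg.Agent.NineSection.One

open Subgroup
open Cfsg.Agent.SelfThree (Inv Self MaxInv exists_maxInv inv_comap)

universe u

variable {G : Type u} [Group G] [Finite G]

namespace OneClass

variable {P : Sylow 3 G} (hO : OneClass P) {x : G} (hx : x ∈ (P : Subgroup G)) (hx1 : x ≠ 1)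
include hO hx hx1

/-- An element of `P` commuting with an inverting element is trivial. -/
theorem eq_one_of_inverted {z w : G} (hzP : ∀ g ∈ (P : Subgroup G), z * g * z⁻¹ = g⁻¹)
    (hw : w ∈ (P : Subgroup G)) (hc : w * z = z * w) : w = 1 := by
  have h := hzP w hw
  rw [← hc, mul_inv_cancel_right] at h
  have h3 := hO.cube w hw
  have h4 : w * w = 1 := by nth_rw 2 [h]; exact mul_inv_cancel w
  rwa [pow_succ, pow_two, h4, one_mul] at h3

/-- The centralizer of an inverting involution is small. -/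
theorem centralizer_sq {z : G} (hz2 : z * z = 1) (hzP : ∀ g ∈ (P : Subgroup G), z * g * z⁻¹ = g⁻¹) :
    Nat.card (centralizer ({z} : Set G)) ^ 2 ≤ Nat.card G := by
  rw [pow_two, ← Nat.card_prod]
  refine Nat.card_le_card_of_injective
    (fun p : centralizer ({z} : Set G) × centralizer ({z} : Set G) => (p.1 : G) * x * p.2) ?_
  rintro ⟨a, b⟩ ⟨a', b'⟩ e
  have e' : (a : G) * x * b = a' * x * b' := e
  set w := (a' : G)⁻¹ * a with hw
  have hwz : w * z = z * w :=
    mem_centralizer_singleton_iff.1 (mul_mem (inv_mem a'.2) a.2)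
  have hwe : x⁻¹ * w * x = b' * (b : G)⁻¹ := by
    calc x⁻¹ * w * x = x⁻¹ * (a' : G)⁻¹ * ((a : G) * x * b) * (b : G)⁻¹ := by rw [hw]; group
      _ = b' * (b : G)⁻¹ := by rw [e']; group
  have hwz' : (x⁻¹ * w * x) * z = z * (x⁻¹ * w * x) := by
    rw [hwe]; exact mem_centralizer_singleton_iff.1 (mul_mem b'.2 (inv_mem b.2))
  have hw' : w * (x * z * x⁻¹) = (x * z * x⁻¹) * w := by
    calc w * (x * z * x⁻¹) = x * ((x⁻¹ * w * x) * z) * x⁻¹ := by group
      _ = x * (z * (x⁻¹ * w * x)) * x⁻¹ := by rw [hwz']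
      _ = _ := by group
  have hzi : z⁻¹ = z := inv_eq_of_mul_eq_one_left hz2
  have hxz : x * z * x⁻¹ * z = x * x := by
    have h := hzP x⁻¹ (inv_mem hx)
    rw [inv_inv, hzi] at h
    rw [mul_assoc x z, mul_assoc x (z * x⁻¹), h]
  have hwx : (x * x) * w = w * (x * x) := by
    rw [← hxz]
    calc x * z * x⁻¹ * z * w = x * z * x⁻¹ * (w * z) := by rw [hwz, mul_assoc]
      _ = x * z * x⁻¹ * w * z := by rw [← mul_assoc]
      _ = w * (x * z * x⁻¹) * z := by rw [hw']
      _ = _ := by rw [mul_assoc]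
  have hwP : w ∈ (P : Subgroup G) := hO.mem_of_comm (mul_mem hx hx) (fun h => hx1 (by
    have h3 := hO.cube x hx
    rwa [pow_succ, pow_two, h, one_mul] at h3)) hwx
  have hw1 := hO.eq_one_of_inverted hx hx1 hzP hwP hwz
  rw [hw1, mul_one, inv_mul_cancel] at hwe
  have h2 : a' = a := Subtype.ext (inv_mul_eq_one.1 (hw ▸ hw1))
  have h3 : (b : G) = b' := (mul_inv_eq_one.1 hwe.symm).symm
  exact Prod.ext h2.symm (Subtype.ext h3)

/-- Three does not divide the order of the centralizer. -/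
theorem centralizer_not3 {z : G} (hz : orderOf z = 2) :
    ¬ 3 ∣ Nat.card (centralizer ({z} : Set G)) := by
  intro h
  haveI : Fact (Nat.Prime 3) := ⟨Nat.prime_three⟩
  obtain ⟨⟨k, hk⟩, hko⟩ := exists_prime_orderOf_dvd_card' (G := centralizer ({z} : Set G)) 3 h
  rw [orderOf_mk] at hko
  have hc : Commute k z := mem_centralizer_singleton_iff.1 hk
  have h6 := hc.orderOf_mul_eq_mul_orderOf_of_coprime (by rw [hko, hz]; norm_num)
  rw [hko, hz] at h6
  exact hO.no_order (by norm_num : (2 : ℕ) ≠ 1) _ h6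

variable [IsSimpleGroup G] (hG : ¬ IsMulCommutative G)
  {z : G} (hz : z * x * z⁻¹ = x⁻¹) (hz2 : z * z = 1)
include hG hz hz2

/-- The order of a subgroup fixed by `z` is the square of that of its fixed points. -/
theorem card_eq_fix {M : Subgroup G} (hM : M ∈ zType x z) : Nat.card M = fixCard z M ^ 2 := by
  obtain ⟨hMx, hzM, hM0, -⟩ := mem_zType.1 hM
  set N := normalizer (M : Set G) with hN
  have h := (hO.self_normalizer hx hx1 hM0 hMx.not3 hMx.inv).card_eq_sq (H := M.subgroupOf N)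
    (t := ⟨z, hzM⟩) (inv_comap (f := N.subtype) hMx.inv)
    (by rw [Nat.card_congr (subgroupOfEquivOfLe le_normalizer).toEquiv]; exact hMx.not3)
    (Subtype.ext hz) (inv_comap (f := N.subtype) hzM)
  rw [Nat.card_congr (subgroupOfEquivOfLe le_normalizer).toEquiv] at h
  rw [h, fixCard, ← card_map_of_injective (K := M.subgroupOf N ⊓ centralizer ({⟨z, hzM⟩} : Set N))
    N.subtype_injective]
  suffices hset : (M.subgroupOf N ⊓ centralizer ({⟨z, hzM⟩} : Set N)).map N.subtype =
      M ⊓ centralizer ({z} : Set G) by rw [hset]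
  ext g
  simp only [mem_map, mem_inf, mem_centralizer_singleton_iff, mem_subgroupOf]
  constructor
  · rintro ⟨g, ⟨hg, hc⟩, rfl⟩
    exact ⟨hg, congrArg Subtype.val hc⟩
  · rintro ⟨hg, hc⟩
    exact ⟨⟨g, le_normalizer hg⟩, ⟨hg, Subtype.ext hc⟩, rfl⟩

/-- The fixed points of different subgroups fill disjoint parts of the centralizer. -/
theorem sum_fix_le :
    2 * ∑ M ∈ zType x z, (fixCard z M - 1) + 2 ≤ Nat.card (centralizer ({z} : Set G)) := by
  classical
  have hzi : z⁻¹ = z := inv_eq_of_mul_eq_one_left hz2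
  have hz1 : z ≠ 1 := fun e => by
    rw [e, one_mul, inv_one, mul_one] at hz
    have h3 := hO.cube x hx
    rw [pow_succ, pow_two] at h3
    nth_rw 2 [hz] at h3
    rw [mul_inv_cancel, one_mul] at h3
    exact hx1 h3
  set ι := (Σ M : zType x z, {g : G // g ∈ M.1 ⊓ centralizer ({z} : Set G) ∧ g ≠ 1}) with hι
  set Φ : ι × Bool ⊕ Bool → centralizer ({z} : Set G) := fun s => match s with
    | Sum.inl (⟨_, g⟩, false) => ⟨g.1, g.2.1.2⟩
    | Sum.inl (⟨_, g⟩, true) => ⟨z * g.1, mul_mem (mem_centralizer_singleton_iff.2 rfl) g.2.1.2⟩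
    | Sum.inr false => 1
    | Sum.inr true => ⟨z, mem_centralizer_singleton_iff.2 rfl⟩ with hΦ
  -- `z` moves nothing of one subgroup into another
  have hsep : ∀ M ∈ zType x z, ∀ M' ∈ zType x z, ∀ m ∈ M, z * m ∉ M' := by
    intro M hM M' hM' m hm hzm
    obtain ⟨hMx, -, -, -⟩ := mem_zType.1 hM
    obtain ⟨hMx', hzM', -, -⟩ := mem_zType.1 hM'
    set m'' := m⁻¹ * (x⁻¹ * m * x) with hm''
    have hm''M : m'' ∈ M := mul_mem (inv_mem hm) (by simpa using hMx.inv.inv.conj_mem hm)
    have hin : m'' * x ∈ M' := by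
      have h1 := mul_mem (inv_mem hzm) (hMx'.inv.conj_mem hzm)
      have e : (z * m)⁻¹ * (x * (z * m) * x⁻¹) = m'' * x := by
        have hzx : z⁻¹ * x * z = x⁻¹ := by rw [hzi]; nth_rw 2 [← hzi]; exact hz
        calc (z * m)⁻¹ * (x * (z * m) * x⁻¹) = m⁻¹ * (z⁻¹ * x * z) * m * x⁻¹ := by group
          _ = m'' * ((x * x)⁻¹) := by rw [hzx, hm'']; group
          _ = m'' * x := by
            congr 1
            exact inv_eq_of_mul_eq_one_left (by
              rw [← mul_assoc, ← pow_two, ← pow_succ, hO.cube x hx])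
      exact e ▸ h1
    obtain ⟨h, -, he⟩ := hO.exists_conj_of_coset hx hx1 hMx.inv hMx.not3 hm''M
    have h3 : orderOf (m'' * x) = 3 := by
      rw [← he]
      exact (orderOf_injective (MulAut.conj h).toMonoidHom (MulAut.conj h).injective x).trans
        (hO.order_eq hx hx1)
    exact hMx'.not3 (h3 ▸ M'.orderOf_dvd_natCard hin)
  have hinj : Function.Injective Φ := by
    rintro (⟨⟨M, g⟩, i⟩ | i) (⟨⟨M', g'⟩, j⟩ | j) e
    · cases i <;> cases j <;> simp only [hΦ, Subtype.mk.injEq] at e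
      · have hMM : M = M' := by
          by_contra hne
          obtain ⟨h1, h1', -, -⟩ := mem_zType.1 M.2
          obtain ⟨h2, h2', -, -⟩ := mem_zType.1 M'.2
          have h := hO.meet_bot hx hx1 hG hz h1 h2 h1' h2' (fun h => hne (Subtype.ext h.symm))
          have hg : (g.1 : G) ∈ M.1 ⊓ M'.1 := mem_inf.2 ⟨g.2.1.1, e ▸ g'.2.1.1⟩
          rw [h, mem_bot] at hg
          exact g.2.2 hg
        subst hMM
        rw [Subtype.ext e]
      · exact absurd (e ▸ g.2.1.1) (hsep _ M'.2 _ M.2 _ g'.2.1.1)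
      · exact absurd (e.symm ▸ g'.2.1.1) (hsep _ M.2 _ M'.2 _ g.2.1.1)
      · have e' := mul_left_cancel e
        have hMM : M = M' := by
          by_contra hne
          obtain ⟨h1, h1', -, -⟩ := mem_zType.1 M.2
          obtain ⟨h2, h2', -, -⟩ := mem_zType.1 M'.2
          have h := hO.meet_bot hx hx1 hG hz h1 h2 h1' h2' (fun h => hne (Subtype.ext h.symm))
          have hg : (g.1 : G) ∈ M.1 ⊓ M'.1 := mem_inf.2 ⟨g.2.1.1, e' ▸ g'.2.1.1⟩
          rw [h, mem_bot] at hg
          exact g.2.2 hg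
        subst hMM
        rw [Subtype.ext e']
    · exfalso
      cases i <;> cases j <;> simp only [hΦ, Subtype.mk.injEq, OneMemClass.coe_one] at e
      · exact g.2.2 (by simpa [Subtype.ext_iff] using e)
      · exact hsep _ M.2 _ M.2 1 (one_mem _) (by rw [mul_one]; exact (congrArg (fun w => w ∈ M.1) e).mp g.2.1.1)
      · refine hsep _ M.2 _ M.2 g.1 g.2.1.1 ?_
        rw [show z * g.1 = 1 by simpa [Subtype.ext_iff] using e]
        exact one_mem _
      · exact g.2.2 (mul_eq_left.1 e)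
    · exfalso
      cases i <;> cases j <;> simp only [hΦ, Subtype.mk.injEq, OneMemClass.coe_one] at e
      · exact g'.2.2 (by simpa [Subtype.ext_iff] using e.symm)
      · refine hsep _ M'.2 _ M'.2 g'.1 g'.2.1.1 ?_
        rw [show z * g'.1 = 1 by simpa [Subtype.ext_iff] using e.symm]
        exact one_mem _
      · exact hsep _ M'.2 _ M'.2 1 (one_mem _) (by rw [mul_one]; exact (congrArg (fun w => w ∈ M'.1) e.symm).mp g'.2.1.1)
      · exact g'.2.2 (mul_eq_left.1 e.symm)
    · cases i <;> cases j <;> simp only [hΦ] at e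
      · rfl
      · exact absurd (congrArg Subtype.val e).symm hz1
      · exact absurd (congrArg Subtype.val e) hz1
      · rfl
  have h := Nat.card_le_card_of_injective Φ hinj
  refine le_trans (le_of_eq ?_) h
  rw [Nat.card_sum, Nat.card_prod, hι, Nat.card_sigma, Nat.card_eq_fintype_card (α := Bool), Fintype.card_bool,
    Finset.sum_coe_sort (zType x z) (fun M => Nat.card {g : G // g ∈ M ⊓ centralizer ({z} : Set G) ∧ g ≠ 1}),
    mul_comm]
  congr 2
  refine Finset.sum_congr rfl fun M _ => ?_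
  rw [show Nat.card {g : G // g ∈ M ⊓ centralizer ({z} : Set G) ∧ g ≠ 1} =
    (((M ⊓ centralizer ({z} : Set G) : Subgroup G) : Set G) \ {1}).ncard from Nat.card_coe_set_eq _,
    Set.ncard_sdiff_singleton_of_mem (one_mem _), ← Nat.card_coe_set_eq]
  rfl

omit hz2 in
/-- Two of them multiply to a bounded number. -/
theorem mul_card_le {M M' : Subgroup G} (hM : M ∈ zType x z) (hM' : M' ∈ zType x z) (hne : M' ≠ M) :
    6 * Nat.card M * Nat.card M' ≤ Nat.card G := by
  obtain ⟨hMx, hzM, -, h6⟩ := mem_zType.1 hM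
  obtain ⟨hMx', hzM', -, -⟩ := mem_zType.1 hM'
  rw [← h6]
  refine card_mul_le (le_bot_iff.1 ?_)
  set L := normalizer (M : Set G) ⊓ M'
  have hNi : Inv x (normalizer (M : Set G)) := le_normalizer hMx.inv
  have hLi : Inv x L := mem_normalizer_iff.2 fun g =>
    ⟨fun h => ⟨hNi.conj_mem h.1, hMx'.inv.conj_mem h.2⟩,
      fun h => ⟨(mem_normalizer_iff.1 hNi g).2 h.1,
        (mem_normalizer_iff.1 hMx'.inv g).2 h.2⟩⟩
  have hL : L ≤ M := hMx.le_of_normalizes hLi (fun h => hMx'.not3 (h.trans (card_dvd_of_le inf_le_right)))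
    inf_le_left
  rw [← hO.meet_bot hx hx1 hG hz hMx hMx' hzM hzM' hne]
  exact le_inf hL inf_le_right

omit hz hz2 in
/-- A single one is bounded as well. -/
theorem two_card_le {q A b : ℕ} [hq : Fact q.Prime] (hq2 : q ≠ 2) (hq3 : q ≠ 3)
    (hcard : Nat.card G = 9 * (2 ^ A * q ^ b)) {M : Subgroup G} (hM : M ∈ zType x z) :
    2 * Nat.card M ≤ 3 * 2 ^ A := by
  obtain ⟨hMx, -, hM0, h6⟩ := mem_zType.1 hM
  have hMdvd : Nat.card M ∣ 2 ^ A * q ^ b := by
    refine Nat.Coprime.dvd_of_dvd_mul_left ?_ (hcard ▸ card_subgroup_dvd_card M)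
    rw [show (9 : ℕ) = 3 ^ 2 by norm_num]
    exact ((Nat.prime_three.coprime_iff_not_dvd.2 hMx.not3).symm).pow_right 2
  by_cases hqM : q ∣ Nat.card M
  · have h3q : ¬ q ∣ 9 * 2 ^ A := fun h => by
      rcases hq.out.dvd_mul.1 h with h | h
      · exact hq3 ((Nat.prime_dvd_prime_iff_eq hq.out Nat.prime_three).1
          (hq.out.dvd_of_dvd_pow (n := 2) (by norm_num; exact h)))
      · exact hq2 ((Nat.prime_dvd_prime_iff_eq hq.out Nat.prime_two).1 (hq.out.dvd_of_dvd_pow h))
    obtain ⟨S, hS, -⟩ := hO.exists_sylow hx hx1 hG hMx hqM (fun e => absurd e hq2)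
    obtain ⟨p, hp, hpM⟩ := SetLike.not_le_iff_exists.1 (hO.not_le_normalizer hM0 hMx.not3)
    set M' := M.map (MulAut.conj p).toMonoidHom with hM'
    have hne : M' ≠ M := fun e => hpM (mem_normalizer_iff.2 fun g => by
      constructor
      · intro hg; rw [← e]; exact ⟨g, hg, rfl⟩
      · intro hg
        rw [← e] at hg
        obtain ⟨g', hg', e'⟩ := hg
        exact (mul_left_cancel (mul_right_cancel (show p * g' * p⁻¹ = p * g * p⁻¹ from e'))) ▸ hg')
    have hMx' := hO.maxInv_conj hx hx1 hMx hp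
    set S' : Subgroup G := (S : Subgroup G).map (MulAut.conj p).toMonoidHom with hS'
    have hcS : Nat.card S' = q ^ b := by
      rw [hS', card_map_of_injective (MulAut.conj p).injective]
      exact SmallSimple.Basic.card_sylow_eq_pow (p := q) (a := b) (m := 9 * 2 ^ A)
        (hcard.trans (by ring)) h3q S
    have hbot : normalizer (M : Set G) ⊓ S' = ⊥ := by
      set L := normalizer (M : Set G) ⊓ M'
      have hNi : Inv x (normalizer (M : Set G)) := le_normalizer hMx.inv
      have hLi : Inv x L := mem_normalizer_iff.2 fun g =>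
        ⟨fun h => ⟨hNi.conj_mem h.1, hMx'.inv.conj_mem h.2⟩,
          fun h => ⟨(mem_normalizer_iff.1 hNi g).2 h.1,
            (mem_normalizer_iff.1 hMx'.inv g).2 h.2⟩⟩
      have hL : L ≤ M := hMx.le_of_normalizes hLi
        (fun h => hMx'.not3 (h.trans (card_dvd_of_le inf_le_right))) inf_le_left
      have hle : normalizer (M : Set G) ⊓ S' ≤ M ⊓ M' :=
        le_inf ((inf_le_inf_left _ (map_mono hS)).trans hL) (inf_le_right.trans (map_mono hS))
      obtain ⟨i, -, hi⟩ := (Nat.dvd_prime_pow hq.out).1 (hcS ▸ card_dvd_of_le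
        (inf_le_right : normalizer (M : Set G) ⊓ S' ≤ S'))
      refine card_eq_one.1 ?_
      rcases Nat.eq_zero_or_pos i with rfl | hi0
      · simpa using hi
      · exfalso
        refine hO.meet_not_dvd hx hx1 hG hq.out hq2 hMx hMx' hne (Nat.dvd_trans ?_ (card_dvd_of_le hle))
        rw [hi]; exact dvd_pow_self q hi0.ne'
    have h := card_mul_le hbot
    rw [h6, hcS, hcard] at h
    have hqp : 0 < q ^ b := pow_pos hq.out.pos b
    exact Nat.le_of_mul_le_mul_right (c := 3 * q ^ b) (by nlinarith) (by positivity)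
  · have hd : Nat.card M ∣ 2 ^ A := by
      refine Nat.Coprime.dvd_of_dvd_mul_right ?_ hMdvd
      exact ((hq.out.coprime_iff_not_dvd.2 hqM).symm).pow_right b
    have := Nat.le_of_dvd (Nat.two_pow_pos A) hd
    omega

/-- The bound on the number of pairs. -/
theorem pairs_bound {q A b : ℕ} [hq : Fact q.Prime] (hq2 : q ≠ 2) (hq3 : q ≠ 3) (hA : 0 < A) (hb : 0 < b)
    (hcard : Nat.card G = 9 * (2 ^ A * q ^ b)) (hzP : ∀ g ∈ (P : Subgroup G), z * g * z⁻¹ = g⁻¹) :
    (pairs x).ncard ≤ 9 + 11 * 2 ^ A + 6 * q ^ b +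
      3 * (Nat.sqrt (Nat.sqrt (3 * (2 ^ A * q ^ b) / 2)) + 1) * (Nat.sqrt (9 * (2 ^ A * q ^ b)) / 2) := by
  classical
  haveI : Fact (Nat.Prime 2) := ⟨Nat.prime_two⟩
  have h1 := hO.pairs_le hx hx1 hG hz hq2 hq3 hA hb hcard hz2 hzP
  have h2 := hO.ncard_xUnion hx hx1 hG hz (p := 2) (a := A) (k := 9 * q ^ b) (hcard.trans (by ring)) (fun h => by
    rcases Nat.prime_two.dvd_mul.1 h with h | h
    · norm_num at h
    · exact hq2 ((Nat.prime_dvd_prime_iff_eq Nat.prime_two hq.out).1 (Nat.prime_two.dvd_of_dvd_pow h)).symm) hA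
  have h3 := hO.ncard_xUnion hx hx1 hG hz (p := q) (a := b) (k := 9 * 2 ^ A) (hcard.trans (by ring)) (fun h => by
    rcases hq.out.dvd_mul.1 h with h | h
    · exact hq3 ((Nat.prime_dvd_prime_iff_eq hq.out Nat.prime_three).1
        (hq.out.dvd_of_dvd_pow (n := 2) (by norm_num; exact h)))
    · exact hq2 ((Nat.prime_dvd_prime_iff_eq hq.out Nat.prime_two).1 (hq.out.dvd_of_dvd_pow h))) hb
  set X := 2 ^ A * q ^ b with hX
  set R := Nat.sqrt (Nat.sqrt (3 * X / 2)) with hR
  have hc : Nat.card (centralizer ({z} : Set G)) ≤ Nat.sqrt (9 * X) :=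
    Nat.le_sqrt'.2 (hcard ▸ hO.centralizer_sq hx hx1 hz2 hzP)
  have hfix := hO.sum_fix_le hx hx1 hG hz hz2
  suffices hsum : 2 * ∑ M ∈ zType x z, (Nat.card M - 1) ≤ 3 * 2 ^ A + 2 * ((R + 1) * (Nat.sqrt (9 * X) / 2)) by
    have : 0 < 2 ^ A := Nat.two_pow_pos A
    rw [mul_assoc 3]
    generalize (R + 1) * (Nat.sqrt (9 * X) / 2) = K at hsum ⊢
    omega
  rcases (zType x z).eq_empty_or_nonempty with he | hne
  · simp [he]
  obtain ⟨M1, hM1, hmax⟩ := Finset.exists_max_image _ (fun M : Subgroup G => Nat.card M) hne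
  have htop := hO.two_card_le hx hx1 hG hq2 hq3 hcard hM1
  rw [← Finset.add_sum_erase _ _ hM1]
  have hrest : ∑ M ∈ (zType x z).erase M1, (Nat.card M - 1) ≤
      (R + 1) * (Nat.sqrt (9 * X) / 2) := by
    calc ∑ M ∈ (zType x z).erase M1, (Nat.card M - 1)
        ≤ ∑ M ∈ (zType x z).erase M1, (R + 1) * (fixCard z M - 1) := by
          refine Finset.sum_le_sum fun M hM => ?_
          obtain ⟨hne1, hMz⟩ := Finset.mem_erase.1 hM
          have hr := hO.card_eq_fix hx hx1 hG hz hz2 hMz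
          have hp := hO.mul_card_le hx hx1 hG hz hMz hM1 (Ne.symm hne1)
          have hle := hmax M hMz
          rw [hcard] at hp
          have hR' : fixCard z M ≤ R := by
            rw [hR, Nat.le_sqrt', Nat.le_sqrt', Nat.le_div_iff_mul_le (by norm_num)]
            have : Nat.card M * Nat.card M ≤ Nat.card M * Nat.card M1 := Nat.mul_le_mul_left _ hle
            rw [← hr]
            nlinarith
          rw [hr]
          obtain ⟨r, hr'⟩ : ∃ r, fixCard z M = r + 1 :=
            ⟨fixCard z M - 1, (Nat.succ_pred_eq_of_pos (Nat.pos_of_ne_zero (by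
              rw [fixCard]; exact Nat.card_pos.ne'))).symm⟩
          rw [hr'] at hR' ⊢
          have h4 : (r + 1) ^ 2 - 1 = (r + 2) * r := by
            rw [show (r + 1) ^ 2 = (r + 2) * r + 1 by ring, Nat.add_sub_cancel]
          rw [h4, Nat.add_sub_cancel]
          exact Nat.mul_le_mul_right _ (by omega)
      _ ≤ (R + 1) * (Nat.sqrt (9 * X) / 2) := by
          rw [← Finset.mul_sum]
          refine Nat.mul_le_mul_left _ ?_
          have hsub := Finset.sum_le_sum_of_subset (f := fun M => fixCard z M - 1)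
            (Finset.erase_subset M1 (zType x z))
          omega
  omega

end OneClass

end Cfsg.Agent.NineSection.One
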