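import Mathlib

/-!
# The finite search
-/

set_option autoImplicit false

namespace Cfsg.Agent.NineSection.One

/-- A degree `f = 2^i * q^j` with the value `a` at an element of order three. -/
structure Cand where
  i : ℕ
  j : ℕ
  f : ℕ
  a : ℤ
deriving DecidableEq

/-- The value determined by the residue modulo nine. -/
def sgnVal (r : ℕ) : ℤ :=
  match r with
  | 1 => 1
  | 2 => 2
  | 7 => -2
  | 8 => -1
  | _ => 0

/-- The weight of a candidate. -/
def Cand.w (c : Cand) : ℕ := c.a.natAbs * c.a.natAbs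

/-- All candidates, by increasing power of two. -/
def cands (q A b : ℕ) : List Cand :=
  (List.range (A + 1)).flatMap fun i => (List.range (b + 1)).filterMap fun j =>
    if 2 ≤ 2 ^ i * q ^ j ∧ 2 ^ i * q ^ j * (2 ^ i * q ^ j) < 9 * (2 ^ A * q ^ b) ∧
        sgnVal (2 ^ i * q ^ j % 9) ≠ 0 then
      some ⟨i, j, 2 ^ i * q ^ j, sgnVal (2 ^ i * q ^ j % 9)⟩
    else none

/-- The inner loop of the search. -/
def dfsLoop (g : ℕ) (rec : ℕ → ℤ → ℕ → List Cand → List Cand → Bool) (w : ℕ) (S : ℤ) (sq : ℕ)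
    (acc : List Cand) : List Cand → Bool
  | [] => true
  | c :: cs =>
    if S % (2 ^ c.i : ℕ) = 0 then
      (if c.w ≤ w ∧ sq + c.f * c.f ≤ g then
          rec (w - c.w) (S + c.a * (c.f : ℤ)) (sq + c.f * c.f) (c :: acc) (c :: cs)
        else true) && dfsLoop g rec w S sq acc cs
    else true

/-- The search over multisets of candidates of given total weight. -/
def dfs (g : ℕ) (leaf : List Cand → Bool) : ℕ → ℕ → ℤ → ℕ → List Cand → List Cand → Bool
  | 0 => fun w S _ acc _ => if w = 0 ∧ S = 0 then leaf acc else true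
  | n + 1 => fun w S sq acc cs =>
    if w = 0 then (if S = 0 then leaf acc else true)
    else dfsLoop g (dfs g leaf n) w S sq acc cs

/-- The residues modulo `m` of the sums over sublists. -/
def subRes (m : ℕ) : List Cand → List ℤ
  | [] => [1 % (m : ℤ)]
  | c :: cs => let r := subRes m cs
    r ++ r.map fun d => (d + c.a * (c.f : ℤ)) % (m : ℤ)

/-- The condition from the principal block at two. -/
def blockTwo (A : ℕ) (l : List Cand) : Bool :=
  (subRes (2 ^ A) (l.filter fun c => decide (c.j ≠ 0))).contains 0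

/-- The condition from the principal block at `q`. -/
def blockQ (q b : ℕ) (l : List Cand) : Bool :=
  (subRes (q ^ b) (l.filter fun c => decide (c.i ≠ 0))).contains 0

/-- Nine times the number of pairs. -/
def nineCount (X : ℕ) (l : List Cand) : ℤ :=
  (X : ℤ) + (l.map fun c => c.a * c.a * c.a * ((X / c.f : ℕ) : ℤ)).sum

/-- The number of pairs exceeds what the invariant subgroups allow. -/
def tooMany (q A b : ℕ) (N : ℤ) : Bool :=
  let X := 2 ^ A * q ^ b
  decide (9 * ((9 + 11 * 2 ^ A + 6 * q ^ b +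
    3 * (Nat.sqrt (Nat.sqrt (3 * X / 2)) + 1) * (Nat.sqrt (9 * X) / 2) : ℕ) : ℤ) < N)

/-- The largest weight of a list. -/
def maxW (X : ℕ) (l : List Cand) : ℤ :=
  (l.map fun c => c.a * ((X / c.f : ℕ) : ℤ)).foldr max 0

/-- The possible values at the involution. -/
def vals (c : Cand) : List ℤ :=
  ((List.range 60).map fun k => (k : ℤ) - 29).filter fun v =>
    decide (((c.f : ℤ) - v) % 4 = 0 ∧ 9 * v ≤ (c.f : ℤ) + 8 * c.a ∧
      -(9 * v) ≤ (c.f : ℤ) + 8 * c.a)

/-- No admissible values at the involution. -/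
def noValues (X : ℕ) : List Cand → ℕ → ℤ → Bool
  | [], _, t => decide (t ≠ 0)
  | c :: cs, bud, t =>
    if maxW X (c :: cs) * (bud : ℤ) < t then true
    else (vals c).all fun v =>
      if v.natAbs * v.natAbs ≤ bud then
        noValues X cs (bud - v.natAbs * v.natAbs) (t - c.a * ((X / c.f : ℕ) : ℤ) * v * v)
      else true

/-- Insertion by decreasing weight. -/
def insW (X : ℕ) (c : Cand) : List Cand → List Cand
  | [] => [c]
  | d :: ds =>
    if d.a * ((X / d.f : ℕ) : ℤ) ≤ c.a * ((X / c.f : ℕ) : ℤ) then c :: d :: ds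
    else d :: insW X c ds

/-- The two exceptional parameters. -/
def special (q A b : ℕ) (N : ℤ) (l : List Cand) : Bool :=
  (decide (q = 5 ∧ A = 6 ∧ b = 3) && l.all fun c => decide (0 < c.a ∨ 80 ≤ c.f)) ||
  (decide (q = 7 ∧ A = 9 ∧ b = 3) && (decide (9 * (22804 : ℤ) < N) ||
    (decide (9 * (18665 : ℤ) ≤ N) && noValues (2 ^ A * q ^ b) (l.foldr (insW (2 ^ A * q ^ b)) []) 895
      ((896 * 896 : ℤ) - (2 ^ A * q ^ b : ℕ)))))

/-- Every possibility at a leaf is excluded. -/
def leafOk (q A b : ℕ) (l : List Cand) : Bool :=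
  let N := nineCount (2 ^ A * q ^ b) l
  if N % 9 = 0 ∧ N / 9 % 9 = 7 then
    tooMany q A b N || special q A b N l || !(blockTwo A l && blockQ q b l)
  else true

/-- The parameters left after the bounds. -/
def inRange (q A b : ℕ) : Bool :=
  decide (4 * 2 ^ A ≤ 81 * q ^ b ∧ 4 * q ^ b ≤ 81 * 2 ^ A ∧ 2 ^ A * q ^ b ≤ 4000000000)

/-- The check for one triple of parameters. -/
def check (q A b : ℕ) : Bool :=
  !inRange q A b || dfs (9 * (2 ^ A * q ^ b)) (leafOk q A b) 8 8 1 1 [] (cands q A b)

/-- All exponents for one prime. -/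
def checkPrime (q : ℕ) : Bool :=
  (List.range 9).all fun b => b == 0 || (b == 1 && decide (11 ≤ q)) ||
    (List.range 19).all fun A => check q A b

/-- The primes at least five up to a bound. -/
def primesIn (lo hi : ℕ) : List ℕ :=
  (List.range (hi - lo)).map (· + lo) |>.filter fun q =>
    (List.range (Nat.sqrt q - 1)).all fun d => decide (q % (d + 2) ≠ 0)

end Cfsg.Agent.NineSection.One
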