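import Cfsg.Agent.Lib.NineSection.One.Setup
import Cfsg.Agent.Lib.NineSection.One.Search
import Cfsg.Agent.Lib.NineSection.Gen
import Cfsg.Agent.Lib.PrimeBlock.Simple
import Cfsg.Agent.BlocksChars.Degrees

/-!
# The generalized character of the elements of order three
-/

set_option autoImplicit false
set_option linter.style.haveILetI false
set_option linter.unusedSectionVars false

open scoped Classical

namespace Cfsg.Agent.NineSection.One

open Subgroup Cfsg.Agent.Blocks Cfsg.Agent.Characters
open Cfsg.Agent.CharTheory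
open Cfsg.Agent.PrimeBlock (deg deg_cast deg_ne_one)
open scoped ComplexConjugate

universe u

variable {G : Type u} [Group G] [Finite G]

/-- Nine times the indicator of the elements of order three. -/
noncomputable def theta (g : G) : ℂ := if orderOf g = 3 then 9 else 0

theorem theta_isClassFunction : Cfsg.IsClassFunction G (theta (G := G)) := fun g h => by
  simp only [theta]
  refine if_congr ?_ rfl rfl
  rw [show orderOf (h * g * h⁻¹) = orderOf g from
    orderOf_injective (MulAut.conj h).toMonoidHom (MulAut.conj h).injective g]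

/-- The integers attached to an irreducible character. -/
structure Coeffs (x : G) where
  a : Cfsg.IrrCharacter G → ℤ
  value : ∀ χ : Cfsg.IrrCharacter G, (χ : G → ℂ) x = (a χ : ℂ)
  inner : ∀ [Fintype G], ∀ χ : Cfsg.IrrCharacter G,
    Cfsg.classInner (theta (G := G)) (χ : G → ℂ) = (a χ : ℂ)

namespace OneClass

variable {P : Sylow 3 G} (hO : OneClass P)
include hO

theorem isGen_theta [Fintype G] : Cfsg.IsGeneralizedCharacter G (theta (G := G)) := by
  haveI : Fact (Nat.Prime 3) := ⟨Nat.prime_three⟩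
  have hP := hO.card
  refine BrauerInduction.isGen_of_elementary theta_isClassFunction fun E q hq hel => ?_
  set m := (P : Subgroup G).index with hm
  have hm3 : ¬ 3 ∣ m := P.not_dvd_index
  have hcop : Nat.Coprime m 9 := by
    rw [show (9 : ℕ) = 3 ^ 2 by norm_num]
    exact (Nat.prime_three.coprime_iff_not_dvd.2 hm3).symm.pow_right 2
  have hmn : Nat.card G = m * 9 := by rw [hm, ← hP, Subgroup.index_mul_card]
  have hE : ∀ x : E, x ^ (m * 9) = 1 := fun x => Subtype.ext (by
    rw [Subgroup.coe_pow, Sections.pow_mul_eq_one hmn]; rfl)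
  let π : E →* G := E.subtype.comp (MonoidHom.mk' (fun e : E => Sections.nPart hcop e)
    (nPart_mul_elementary hcop hE hq hel))
  have hπ : ∀ e : E, π e = Sections.nPart hcop (e : G) := fun e => by
    show ((Sections.nPart hcop e : E) : G) = _
    simp [Sections.nPart]
  have hpg : IsPGroup 3 π.range := by
    rintro ⟨_, e, rfl⟩
    exact ⟨2, Subtype.ext (show π e ^ (3 ^ 2) = 1 by
      rw [hπ]
      exact Sections.nPart_pow hcop hmn _)⟩
  obtain ⟨Q, hQ⟩ := hpg.exists_le_sylow
  obtain ⟨h, hh⟩ := MulAction.exists_smul_eq G Q P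
  have hin : ∀ e : E, h * π e * h⁻¹ ∈ (P : Subgroup G) := by
    intro e
    rw [← hh]
    show h * π e * h⁻¹ ∈ h • Q
    rw [Transfer.Fusion.mem_smul_sylow_iff]
    have h2 : π e ∈ Q := hQ ⟨e, rfl⟩
    simpa [mul_assoc] using h2
  let ψ : E →* (P : Subgroup G) :=
    MonoidHom.codRestrict ((MulAut.conj h).toMonoidHom.comp π) _ hin
  haveI : Fintype (P : Subgroup G) := Fintype.ofFinite _
  set K' : Subgroup (P : Subgroup G) := ⊥ with hK'
  have hind : ∀ r : (P : Subgroup G), Cfsg.indFun K' (fun _ => 1) r = if r = 1 then 9 else 0 := by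
    intro r
    rw [Cfsg.indFun, Finset.sum_congr rfl fun x _ => by
      rw [show x⁻¹ * r * x = r by
        rw [mul_assoc, show r * x = x * r from Subtype.ext (hO.comm r.2 x.2),
          inv_mul_cancel_left],
        IndBasic.extendByZero_one],
      Finset.sum_const, Finset.card_univ, nsmul_eq_mul, ← Nat.card_eq_fintype_card, hP, hK', card_bot]
    by_cases hr : r = 1
    · rw [if_pos hr, if_pos (show r ∈ (⊥ : Subgroup (P : Subgroup G)) from mem_bot.2 hr)]; norm_num
    · rw [if_neg hr, if_neg (fun h => hr (mem_bot.1 h))]; simp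
  have hgen : Cfsg.IsGeneralizedCharacter (P : Subgroup G)
      (fun r : (P : Subgroup G) => if r = 1 then (0 : ℂ) else 9) := by
    have := isGen_sub (isGen_intSmul (isGen_of_isCharacter
      (isCharacter_one (G := (P : Subgroup G)))) 9)
      (isGen_indFun K' (isGen_of_isCharacter (isCharacter_one (G := K'))))
    convert this using 1
    funext r
    simp only [Pi.sub_apply, Pi.smul_apply, hind r]
    split_ifs <;> simp
  have hmain := isGen_comp ψ hgen
  convert hmain using 1
  funext e
  simp only [Function.comp_apply, theta]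
  have hiff : ψ e = 1 ↔ ¬ orderOf (e : G) = 3 := by
    rw [← Subtype.coe_inj]
    show h * π e * h⁻¹ = 1 ↔ _
    rw [conj_eq_one_iff, hπ]
    obtain ⟨y, hxy, hc, -, hy⟩ := isPPart_nPart hcop hmn hm3 (k := 2) (by norm_num) (e : G)
    constructor
    · intro h1 h3
      rw [h1, one_mul] at hxy
      rw [hxy, h3] at hy
      exact hy dvd_rfl
    · intro h3
      by_contra h1
      refine h3 (hO.order_three ?_)
      obtain ⟨k, hk⟩ : ∃ k, orderOf (Sections.nPart hcop (e : G)) = 3 ^ k := by
        obtain ⟨l, -, hl⟩ := (Nat.dvd_prime_pow Nat.prime_three).1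
          (show orderOf (Sections.nPart hcop (e : G)) ∣ 3 ^ 2 from
            orderOf_dvd_of_pow_eq_one (Sections.nPart_pow hcop hmn _))
        exact ⟨l, hl⟩
      have hk0 : k ≠ 0 := fun e0 => h1 (orderOf_eq_one_iff.1 (by rw [hk, e0, pow_zero]))
      have h2 : 3 ∣ orderOf (Sections.nPart hcop (e : G)) := hk ▸ dvd_pow_self 3 hk0
      refine h2.trans (orderOf_dvd_of_pow_eq_one ?_)
      rw [Sections.nPart, ← pow_mul, mul_comm, pow_mul, pow_orderOf_eq_one, one_pow]
  by_cases he : orderOf (e : G) = 3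
  · rw [if_pos he, if_neg (fun h1 => hiff.1 h1 he)]
  · rw [if_neg he, if_pos (hiff.2 he)]

variable {x : G} (hx : x ∈ (P : Subgroup G)) (hx1 : x ≠ 1)
include hx hx1

theorem isConj_inv : IsConj x x⁻¹ :=
  hO.isConj hx hx1 (by rw [orderOf_inv]; exact hO.order_eq hx hx1)

theorem conj_value (χ : Cfsg.IrrCharacter G) : conj ((χ : G → ℂ) x) = (χ : G → ℂ) x := by
  rw [← char_inv (irr_isCharacter χ)]
  obtain ⟨c, hc⟩ := isConj_iff.1 (hO.isConj_inv hx hx1)
  rw [← hc, irr_isClassFunction χ x c]

theorem value_three (χ : Cfsg.IrrCharacter G) {g : G} (hg : orderOf g = 3) :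
    (χ : G → ℂ) g = (χ : G → ℂ) x := by
  obtain ⟨c, hc⟩ := isConj_iff.1 (hO.isConj hx hx1 hg)
  rw [← hc, irr_isClassFunction χ x c]

/-- The number of elements of order three. -/
theorem card_three : Nat.card {g : G // orderOf g = 3} * 9 = Nat.card G := by
  have h := card_carrier_mul_card_centralizer x
  rw [hO.cent x hx hx1, hO.card] at h
  rw [← h]
  congr 1
  refine Nat.card_congr (Equiv.subtypeEquivRight fun g => ?_)
  rw [ConjClasses.mem_carrier_iff_mk_eq, ConjClasses.mk_eq_mk_iff_isConj]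
  refine ⟨fun hg => (hO.isConj hx hx1 hg).symm, fun hg => ?_⟩
  obtain ⟨c, hc⟩ := isConj_iff.1 hg.symm
  rw [← hc]
  exact (orderOf_injective (MulAut.conj c).toMonoidHom (MulAut.conj c).injective x).trans
    (hO.order_eq hx hx1)

theorem inner_theta [Fintype G] (χ : Cfsg.IrrCharacter G) :
    Cfsg.classInner (theta (G := G)) (χ : G → ℂ) = (χ : G → ℂ) x := by
  rw [classInner_def]
  have h : ∑ g : G, theta g * conj ((χ : G → ℂ) g) =
      (Nat.card {g : G // orderOf g = 3} : ℂ) * (9 * (χ : G → ℂ) x) := by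
    rw [Finset.sum_congr rfl fun g _ => show theta g * conj ((χ : G → ℂ) g) =
        if orderOf g = 3 then 9 * (χ : G → ℂ) x else 0 by
      simp only [theta]
      split_ifs with hg
      · rw [hO.value_three hx hx1 χ hg, hO.conj_value hx hx1 χ]
      · rw [zero_mul],
      ← Finset.sum_filter, Finset.sum_const, nsmul_eq_mul, Nat.card_eq_fintype_card, Fintype.card_subtype]
  have h9 : (Nat.card {g : G // orderOf g = 3} : ℂ) * 9 = (Nat.card G : ℂ) := by
    exact_mod_cast hO.card_three hx hx1
  rw [h, ← mul_assoc (Nat.card {g : G // orderOf g = 3} : ℂ), h9, inv_mul_cancel_left₀ natCard_ne_zero]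

theorem exists_coeffs : Nonempty (Coeffs x) := by
  haveI := Fintype.ofFinite G
  haveI := Fintype.ofFinite (Cfsg.IrrCharacter G)
  obtain ⟨c, hc⟩ := ZStar.Induce.exists_coeffs hO.isGen_theta
  refine ⟨⟨c, fun χ => by rw [← hO.inner_theta hx hx1 χ, hc χ], fun {inst} χ => ?_⟩⟩
  convert hc χ using 2

variable (C : Coeffs x)

theorem a_triv : C.a (trivIrr G) = 1 := by
  have h := C.value (trivIrr G)
  rw [trivIrr_coe] at h
  change (1 : ℂ) = _ at h
  exact_mod_cast h.symm

theorem sum_sq [Fintype (Cfsg.IrrCharacter G)] : ∑ χ, C.a χ * C.a χ = 9 := by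
  haveI := Fintype.ofFinite G
  refine ZStar.Induce.sum_mul_coeffs theta_isClassFunction (fun χ => C.inner χ) (fun χ => C.inner χ) ?_
  have h1 := C.inner (trivIrr G)
  rw [hO.a_triv hx hx1 C, trivIrr_coe] at h1
  have h2 : Cfsg.classInner (theta (G := G)) (theta (G := G)) = 9 * Cfsg.classInner (theta (G := G)) (fun _ => (1 : ℂ)) := by
    rw [classInner_def, classInner_def, mul_left_comm, Finset.mul_sum]
    simp only [Finset.mul_sum]
    refine Finset.sum_congr rfl fun g _ => ?_
    simp only [theta]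
    split_ifs <;> simp [Complex.conj_ofNat]
  rw [h2, h1]
  norm_num

theorem sum_deg [Fintype (Cfsg.IrrCharacter G)] : ∑ χ, C.a χ * (deg χ : ℤ) = 0 := by
  haveI := Fintype.ofFinite G
  have h := ZStar.Induce.value_eq_sum theta_isClassFunction (fun χ => C.inner χ) (1 : G)
  rw [theta, if_neg (by simp)] at h
  have h' : ((∑ χ, C.a χ * (deg χ : ℤ) : ℤ) : ℂ) = ((0 : ℤ) : ℂ) := by
    push_cast
    rw [h]
    exact Finset.sum_congr rfl fun χ _ => by rw [← deg_cast]
  exact_mod_cast h'

/-- The multiplicity of the trivial character in the restriction to `P`. -/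
theorem restrict_nat (χ : Cfsg.IrrCharacter G) :
    ∃ m : ℕ, (deg χ : ℤ) + 8 * C.a χ = 9 * (m : ℤ) := by
  haveI : Fintype (P : Subgroup G) := Fintype.ofFinite _
  obtain ⟨m, hm⟩ := classInner_char_nat (isCharacter_restrict (P : Subgroup G) (irr_isCharacter χ))
    (isCharacter_one (G := (P : Subgroup G)))
  refine ⟨m, ?_⟩
  rw [classInner_def, hO.card, Finset.sum_congr rfl fun (p : (P : Subgroup G)) _ => show (χ : G → ℂ) p * conj (1 : ℂ) =
      if p = 1 then ((deg χ : ℤ) : ℂ) else (C.a χ : ℂ) by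
    rw [map_one, mul_one]
    split_ifs with hp
    · rw [hp, OneMemClass.coe_one, ← deg_cast, Int.cast_natCast]
    · rw [hO.value_three hx hx1 χ (hO.order_eq p.2 (fun e => hp (Subtype.ext e))), C.value χ]] at hm
  rw [Finset.sum_ite, Finset.filter_eq', if_pos (Finset.mem_univ _), Finset.sum_singleton, Finset.sum_const,
    nsmul_eq_mul, Finset.filter_ne', Finset.card_erase_of_mem (Finset.mem_univ _), Finset.card_univ,
    ← Nat.card_eq_fintype_card, hO.card] at hm
  have h' : (((deg χ : ℤ) + 8 * C.a χ : ℤ) : ℂ) = ((9 * (m : ℤ) : ℤ) : ℂ) := by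
    rw [inv_mul_eq_iff_eq_mul₀ (by norm_num)] at hm
    push_cast at hm ⊢
    norm_num at hm
    linear_combination hm
  exact_mod_cast h'

theorem a_ne_zero {χ : Cfsg.IrrCharacter G} (h : ¬ 9 ∣ deg χ) : C.a χ ≠ 0 := by
  intro e
  obtain ⟨m, hm⟩ := hO.restrict_nat hx hx1 C χ
  rw [e, mul_zero, add_zero] at hm
  exact h ⟨m, by exact_mod_cast hm⟩

/-- The value is determined by the degree. -/
theorem sgn_eq {χ : Cfsg.IrrCharacter G} (hne : χ ≠ trivIrr G) (ha : C.a χ ≠ 0) :
    C.a χ = sgnVal (deg χ % 9) ∧ ¬ 3 ∣ deg χ ∧ C.a χ * C.a χ ≤ 8 := by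
  haveI := Fintype.ofFinite (Cfsg.IrrCharacter G)
  have hle : C.a χ * C.a χ ≤ 8 := by
    have h1 := Finset.sum_le_sum_of_subset_of_nonneg (f := fun ψ => C.a ψ * C.a ψ)
      (Finset.subset_univ {χ, trivIrr G}) (fun ψ _ _ => mul_self_nonneg _)
    rw [Finset.sum_pair hne, hO.sum_sq hx hx1 C, hO.a_triv hx hx1 C] at h1
    linarith
  obtain ⟨m, hm⟩ := hO.restrict_nat hx hx1 C χ
  have h2 : -2 ≤ C.a χ ∧ C.a χ ≤ 2 := by constructor <;> nlinarith
  obtain ⟨h2a, h2b⟩ := h2
  refine ⟨?_, ?_, hle⟩
  · generalize C.a χ = v at *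
    have hr : (deg χ : ℤ) % 9 = v % 9 := by omega
    have hr' : ((deg χ % 9 : ℕ) : ℤ) = (deg χ : ℤ) % 9 := by omega
    interval_cases v
    · rw [show deg χ % 9 = 7 by omega]; rfl
    · rw [show deg χ % 9 = 8 by omega]; rfl
    · exact absurd rfl ha
    · rw [show deg χ % 9 = 1 by omega]; rfl
    · rw [show deg χ % 9 = 2 by omega]; rfl
  · intro h3
    obtain ⟨k, hk⟩ := h3
    generalize C.a χ = v at *
    omega

/-- The squares of the degrees of the constituents stay below the order. -/
theorem sum_deg_sq_lt [Fintype (Cfsg.IrrCharacter G)] (s : Finset (Cfsg.IrrCharacter G)) :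
    ∑ χ ∈ s, deg χ * deg χ ≤ Nat.card G := by
  haveI := Fintype.ofFinite G
  have h := sum_degree_sq (G := G)
  have h' : ∑ χ : Cfsg.IrrCharacter G, deg χ * deg χ = Nat.card G := by
    have h2 : ((∑ χ : Cfsg.IrrCharacter G, deg χ * deg χ : ℕ) : ℂ) = (Nat.card G : ℂ) := by
      rw [← h]
      push_cast
      exact Finset.sum_congr rfl fun χ _ => by rw [← deg_cast, pow_two]
    exact_mod_cast h2
  exact h' ▸ Finset.sum_le_sum_of_subset (Finset.subset_univ s)

/-- Subgroups of order prime to three have large index. -/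
theorem exists_negative {H : Subgroup G} (hH : ¬ 3 ∣ Nat.card H) :
    ∃ χ : Cfsg.IrrCharacter G, C.a χ < 0 ∧ deg χ < H.index := by
  haveI := Fintype.ofFinite G
  haveI := Fintype.ofFinite (Cfsg.IrrCharacter G)
  haveI : Fintype H := Fintype.ofFinite _
  set π : G → ℂ := Cfsg.indFun H (fun _ => 1) with hπ
  have hπc : Cfsg.IsCharacter G π := isCharacter_indFun H (isCharacter_one (G := H))
  choose m hm using fun χ : Cfsg.IrrCharacter G => classInner_char_nat hπc (irr_isCharacter χ)
  have hcls : Cfsg.IsClassFunction G π := indFun_isClassFunction H _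
  have hm' : ∀ χ : Cfsg.IrrCharacter G, Cfsg.classInner π (χ : G → ℂ) = ((m χ : ℤ) : ℂ) := fun χ => by
    rw [hm χ]; norm_cast
  have hindex : ∑ χ, (m χ : ℤ) * (deg χ : ℤ) = (H.index : ℤ) := by
    have h := ZStar.Induce.value_eq_sum hcls (c := fun χ => (m χ : ℤ)) hm' (1 : G)
    rw [hπ, indFun_one, mul_one] at h
    have h' : ((∑ χ, (m χ : ℤ) * (deg χ : ℤ) : ℤ) : ℂ) = ((H.index : ℤ) : ℂ) := by
      push_cast
      rw [h]
      exact Finset.sum_congr rfl fun χ _ => by rw [← deg_cast]; norm_num
    exact_mod_cast h'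
  have hzero : ∑ χ, C.a χ * (m χ : ℤ) = 0 := by
    refine ZStar.Induce.sum_mul_coeffs theta_isClassFunction (fun χ => C.inner χ) hm' ?_
    rw [hπ, frobenius_reciprocity' H _ theta_isClassFunction, classInner_def,
      Finset.sum_eq_zero fun h _ => ?_, mul_zero, Int.cast_zero]
    rw [theta, if_neg, zero_mul]
    exact fun h3 => hH (h3 ▸ H.orderOf_dvd_natCard h.2)
  have hm1 : m (trivIrr G) = 1 := by
    have h := hm (trivIrr G)
    rw [hπ, classInner_conj_symm, trivIrr_coe, frobenius_reciprocity' H _ (fun _ _ => rfl), classInner_def] at h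
    simp only [map_one, mul_one, Finset.sum_const, Finset.card_univ, nsmul_eq_mul, ← Nat.card_eq_fintype_card,
      inv_mul_cancel₀ (natCard_ne_zero (G := H))] at h
    exact_mod_cast h.symm
  by_contra hcon
  push Not at hcon
  have hterm : ∀ χ : Cfsg.IrrCharacter G, 0 ≤ C.a χ * (m χ : ℤ) := by
    intro χ
    rcases le_or_gt 0 (C.a χ) with h | h
    · exact mul_nonneg h (by positivity)
    · have hd := hcon χ h
      rcases Nat.eq_zero_or_pos (m χ) with e | e
      · rw [e]; simp
      · exfalso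
        have hne : χ ≠ trivIrr G := fun e' => by
          rw [e', hO.a_triv hx hx1 C] at h
          norm_num at h
        have h2 := Finset.sum_le_sum_of_subset_of_nonneg (f := fun ψ => (m ψ : ℤ) * (deg ψ : ℤ))
          (Finset.subset_univ {χ, trivIrr G}) (fun ψ _ _ => by positivity)
        rw [Finset.sum_pair hne, hindex, hm1, PrimeBlock.deg_trivIrr] at h2
        have h3 : (deg χ : ℤ) ≤ (m χ : ℤ) * (deg χ : ℤ) :=
          le_mul_of_one_le_left (by positivity) (by exact_mod_cast e)
        have h4 : (H.index : ℤ) ≤ deg χ := by exact_mod_cast hd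
        push_cast at h2
        linarith
  have h1 := Finset.single_le_sum (fun χ _ => hterm χ) (Finset.mem_univ (trivIrr G))
  rw [hzero, hO.a_triv hx hx1 C, hm1] at h1
  norm_num at h1

end OneClass

end Cfsg.Agent.NineSection.One
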