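import Cfsg.Agent.Lib.NineSection.One.Search

/-!
# The search, prime five
-/

set_option autoImplicit false
set_option maxHeartbeats 4000000

namespace Cfsg.Agent.NineSection.One

theorem check_five : checkPrime 5 = true := by decide +kernel

end Cfsg.Agent.NineSection.One
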