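import Cfsg.Agent.Lib.NineSection.One.Search

/-!
# Completeness of the search
-/

set_option autoImplicit false

namespace Cfsg.Agent.NineSection.One

/-- The contribution to the sum of the degrees. -/
def lin (l : List Cand) : ℤ := (l.map fun c => c.a * (c.f : ℤ)).sum

/-- The sum of the squares of the degrees. -/
def sqs (l : List Cand) : ℕ := (l.map fun c => c.f * c.f).sum

/-- The total weight. -/
def wts (l : List Cand) : ℕ := (l.map Cand.w).sum

theorem lin_erase {r : List Cand} {c : Cand} (h : c ∈ r) : lin r = c.a * (c.f : ℤ) + lin (r.erase c) := by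
  have := ((List.perm_cons_erase h).map fun d => d.a * (d.f : ℤ)).sum_eq
  simpa [lin] using this

theorem sqs_erase {r : List Cand} {c : Cand} (h : c ∈ r) : sqs r = c.f * c.f + sqs (r.erase c) := by
  have := ((List.perm_cons_erase h).map fun d => d.f * d.f).sum_eq
  simpa [sqs] using this

theorem wts_erase {r : List Cand} {c : Cand} (h : c ∈ r) : wts r = c.w + wts (r.erase c) := by
  have := ((List.perm_cons_erase h).map Cand.w).sum_eq
  simpa [wts] using this

theorem eq_nil_of_wts {r : List Cand} (h1 : ∀ c ∈ r, 1 ≤ c.w) (h : wts r = 0) : r = [] := by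
  rcases r with _ | ⟨c, r⟩
  · rfl
  · have := h1 c (by simp)
    simp [wts] at h
    omega

theorem dvd_lin {i : ℕ} : ∀ {r : List Cand}, (∀ c ∈ r, i ≤ c.i ∧ (2 ^ c.i : ℕ) ∣ c.f) →
    ((2 ^ i : ℕ) : ℤ) ∣ lin r
  | [], _ => by simp [lin]
  | c :: r, h => by
    have h1 : ((2 ^ i : ℕ) : ℤ) ∣ c.a * (c.f : ℤ) :=
      Dvd.dvd.mul_left (Int.natCast_dvd_natCast.2 ((pow_dvd_pow 2 (h c (by simp)).1).trans (h c (by simp)).2)) _
    have h2 := dvd_lin (i := i) (r := r) fun d hd => h d (by simp [hd])
    simpa [lin] using h1.add h2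

theorem dfs_sound (g : ℕ) (leaf : List Cand → Bool) : ∀ (n w : ℕ) (S : ℤ) (sq : ℕ) (acc cs : List Cand),
    dfs g leaf n w S sq acc cs = true → cs.Pairwise (fun c d => c.i ≤ d.i) → (∀ c ∈ cs, (2 ^ c.i : ℕ) ∣ c.f) →
    ∀ r : List Cand, (∀ c ∈ r, c ∈ cs) → (∀ c ∈ r, 1 ≤ c.w) → wts r = w → w ≤ n →
      S + lin r = 0 → sq + sqs r ≤ g → ∃ l, l.Perm (r ++ acc) ∧ leaf l = true := by
  intro n
  induction n with
  | zero =>
    intro w S sq acc cs h _ _ r _ hw1 hw hn hS _
    obtain rfl : w = 0 := Nat.le_zero.1 hn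
    obtain rfl := eq_nil_of_wts hw1 hw
    refine ⟨acc, List.Perm.refl _, ?_⟩
    simp [lin] at hS
    simpa [dfs, hS] using h
  | succ n ih =>
    intro w S sq acc cs h hsort hdvd r hsub hw1 hw hn hS hsq
    by_cases hw0 : w = 0
    · subst hw0
      obtain rfl := eq_nil_of_wts hw1 hw
      refine ⟨acc, List.Perm.refl _, ?_⟩
      simp [lin] at hS
      simpa [dfs, hS] using h
    rw [dfs] at h
    simp only [hw0, if_false] at h
    induction cs with
    | nil =>
      rcases r with _ | ⟨c, r⟩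
      · simp [wts] at hw; omega
      · exact absurd (hsub c (by simp)) (by simp)
    | cons c cs ihc =>
      rw [List.pairwise_cons] at hsort
      have hdiv : S % ((2 ^ c.i : ℕ) : ℤ) = 0 := by
        refine Int.emod_eq_zero_of_dvd ?_
        have h2 : ((2 ^ c.i : ℕ) : ℤ) ∣ lin r := dvd_lin fun d hd => by
          rcases List.mem_cons.1 (hsub d hd) with rfl | hd'
          · exact ⟨le_rfl, hdvd d (by simp)⟩
          · exact ⟨hsort.1 d hd', hdvd d (by simp [hd'])⟩
        rw [show S = -lin r by omega]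
        exact dvd_neg.2 h2
      rw [dfsLoop, if_pos hdiv, Bool.and_eq_true] at h
      by_cases hc : c ∈ r
      · have hwe := wts_erase hc
        have hse := sqs_erase hc
        have hle := lin_erase hc
        rw [if_pos ⟨by omega, by omega⟩] at h
        obtain ⟨l, hl, hleaf⟩ := ih (w - c.w) (S + c.a * (c.f : ℤ)) (sq + c.f * c.f) (c :: acc) (c :: cs) h.1
          (List.pairwise_cons.2 hsort) hdvd (r.erase c) (fun d hd => hsub d (List.mem_of_mem_erase hd))
          (fun d hd => hw1 d (List.mem_of_mem_erase hd)) (by omega) (by have := hw1 c hc; omega)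
          (by omega) (by omega)
        exact ⟨l, hl.trans (List.perm_middle.trans (((List.perm_cons_erase hc).symm).append_right acc)), hleaf⟩
      · have hsub' : ∀ d ∈ r, d ∈ cs := fun d hd =>
          (List.mem_cons.1 (hsub d hd)).resolve_left fun e => hc (e ▸ hd)
        refine ihc ?_ ?_ ?_ ?_
        all_goals first
          | exact hsort.2
          | exact h.2
          | exact hsub'
          | exact fun d hd => hdvd d (by simp [hd])

theorem mem_cands {q A b i j : ℕ} (hi : i ≤ A) (hj : j ≤ b) (h2 : 2 ≤ 2 ^ i * q ^ j)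
    (hlt : 2 ^ i * q ^ j * (2 ^ i * q ^ j) < 9 * (2 ^ A * q ^ b)) (hs : sgnVal (2 ^ i * q ^ j % 9) ≠ 0) :
    (⟨i, j, 2 ^ i * q ^ j, sgnVal (2 ^ i * q ^ j % 9)⟩ : Cand) ∈ cands q A b := by
  simp only [cands, List.mem_flatMap, List.mem_range, List.mem_filterMap]
  exact ⟨i, by omega, j, by omega, by rw [if_pos ⟨h2, hlt, hs⟩]⟩

theorem cands_pairwise (q A b : ℕ) : (cands q A b).Pairwise fun c d => c.i ≤ d.i := by
  have hi : ∀ i : ℕ, ∀ c ∈ ((List.range (b + 1)).filterMap fun j =>
      if 2 ≤ 2 ^ i * q ^ j ∧ 2 ^ i * q ^ j * (2 ^ i * q ^ j) < 9 * (2 ^ A * q ^ b) ∧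
          sgnVal (2 ^ i * q ^ j % 9) ≠ 0 then
        some (⟨i, j, 2 ^ i * q ^ j, sgnVal (2 ^ i * q ^ j % 9)⟩ : Cand)
      else none), c.i = i := by
    intro i c hc
    obtain ⟨j, -, hj⟩ := List.mem_filterMap.1 hc
    split_ifs at hj
    obtain rfl := Option.some.inj hj
    rfl
  rw [cands, List.pairwise_flatMap]
  refine ⟨fun i _ => List.pairwise_of_forall_mem_list fun c hc d hd => (hi i c hc).le.trans (hi i d hd).ge,
    List.pairwise_lt_range.imp fun {i i'} hlt c hc d hd => ?_⟩
  have h1 := hi i c hc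
  have h2 := hi i' d hd
  omega

theorem cands_dvd (q A b : ℕ) : ∀ c ∈ cands q A b, (2 ^ c.i : ℕ) ∣ c.f := by
  intro c hc
  simp only [cands, List.mem_flatMap, List.mem_filterMap] at hc
  obtain ⟨i, -, j, -, hj⟩ := hc
  split_ifs at hj
  obtain rfl := Option.some.inj hj
  exact Dvd.intro _ rfl

/-- A successful check gives a successful leaf for every admissible family. -/
theorem check_sound {q A b : ℕ} (h : check q A b = true) (hr : inRange q A b = true) (l : List Cand)
    (hmem : ∀ c ∈ l, c ∈ cands q A b) (hw1 : ∀ c ∈ l, 1 ≤ c.w) (hw : wts l = 8) (hl : 1 + lin l = 0)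
    (hsq : 1 + sqs l ≤ 9 * (2 ^ A * q ^ b)) : ∃ l', l'.Perm l ∧ leafOk q A b l' = true := by
  simp only [check, hr, Bool.not_true, Bool.false_or] at h
  have := dfs_sound _ _ 8 8 1 1 [] _ h (cands_pairwise q A b) (cands_dvd q A b) l hmem hw1 hw le_rfl hl hsq
  simpa using this

theorem subRes_mem (m : ℕ) {s cs : List Cand} (h : s.Sublist cs) :
    (1 + lin s) % (m : ℤ) ∈ subRes m cs := by
  induction h with
  | slnil => simp [lin, subRes]
  | cons c _ ih => simp only [subRes, List.mem_append]; exact Or.inl ih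
  | cons_cons c _ ih =>
    simp only [subRes, List.mem_append, List.mem_map]
    refine Or.inr ⟨_, ih, ?_⟩
    rw [Int.emod_add_emod]
    simp only [lin, List.map_cons, List.sum_cons]
    ring_nf

theorem contains_of_sum (m : ℕ) {s cs : List Cand} (h : s.Subperm cs) (hs : (m : ℤ) ∣ 1 + lin s) :
    (subRes m cs).contains 0 = true := by
  obtain ⟨t, ht, hts⟩ := h
  have h1 := subRes_mem m hts
  rw [show lin t = lin s from (ht.map _).sum_eq, Int.emod_eq_zero_of_dvd hs] at h1
  simpa using h1

theorem maxW_le (X : ℕ) : ∀ {l : List Cand}, 0 ≤ maxW X l ∧ ∀ c ∈ l, c.a * ((X / c.f : ℕ) : ℤ) ≤ maxW X l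
  | [] => by simp [maxW]
  | c :: l => by
    obtain ⟨h0, h⟩ := maxW_le X (l := l)
    have e : maxW X (c :: l) = max (c.a * ((X / c.f : ℕ) : ℤ)) (maxW X l) := rfl
    rw [e]
    refine ⟨le_max_of_le_right h0, fun d hd => ?_⟩
    rcases List.mem_cons.1 hd with rfl | hd
    · exact le_max_left _ _
    · exact (h d hd).trans (le_max_right _ _)

/-- The weighted sum of squares. -/
def wsum (X : ℕ) (l : List (Cand × ℤ)) : ℤ :=
  (l.map fun p => p.1.a * ((X / p.1.f : ℕ) : ℤ) * p.2 * p.2).sum

theorem wsum_le (X : ℕ) (M : ℤ) : ∀ (l : List (Cand × ℤ)), (∀ p ∈ l, p.1.a * ((X / p.1.f : ℕ) : ℤ) ≤ M) →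
    wsum X l ≤ M * ((l.map fun p => p.2.natAbs * p.2.natAbs).sum : ℕ)
  | [], _ => by simp [wsum]
  | p :: l, h => by
    have h1 := wsum_le X M l fun d hd => h d (by simp [hd])
    have h2 := h p (by simp)
    simp only [wsum, List.map_cons, List.sum_cons, Nat.cast_add, Nat.cast_mul, Int.natAbs_mul_self'] at h1 ⊢
    have h3 := mul_le_mul_of_nonneg_right h2 (mul_self_nonneg p.2)
    nlinarith

theorem noValues_sound (X : ℕ) : ∀ (l : List (Cand × ℤ)) (bud : ℕ) (t : ℤ),
    noValues X (l.map Prod.fst) bud t = true → (∀ p ∈ l, p.2 ∈ vals p.1) →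
    (l.map fun p => p.2.natAbs * p.2.natAbs).sum ≤ bud → wsum X l = t → False
  | [], bud, t, h, _, _, ht => by
    simp only [List.map_nil, noValues, decide_eq_true_eq] at h
    simp only [wsum, List.map_nil, List.sum_nil] at ht
    exact h ht.symm
  | p :: l, bud, t, h, hv, hb, ht => by
    have hm := maxW_le X (l := (p :: l).map Prod.fst)
    have hle := wsum_le X (maxW X ((p :: l).map Prod.fst)) (p :: l) fun d hd => hm.2 _ (List.mem_map_of_mem hd)
    have hle' : wsum X (p :: l) ≤ maxW X ((p :: l).map Prod.fst) * (bud : ℤ) :=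
      hle.trans (mul_le_mul_of_nonneg_left (by exact_mod_cast hb) hm.1)
    simp only [List.map_cons, noValues] at h hm hle'
    simp only [List.map_cons, List.sum_cons] at hb
    rw [if_neg (by omega), List.all_eq_true] at h
    have h1 := h p.2 (hv p (by simp))
    rw [if_pos (by omega)] at h1
    refine noValues_sound X l _ _ h1 (fun d hd => hv d (by simp [hd])) (by omega) ?_
    simp only [wsum, List.map_cons, List.sum_cons] at ht ⊢
    omega

theorem insW_perm (X : ℕ) (c : Cand) : ∀ l : List Cand, (insW X c l).Perm (c :: l)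
  | [] => List.Perm.refl _
  | d :: ds => by
    rw [insW]
    split_ifs
    · exact List.Perm.refl _
    · exact ((insW_perm X c ds).cons d).trans (List.Perm.swap c d ds)

theorem foldr_insW_perm (X : ℕ) : ∀ l : List Cand, (l.foldr (insW X) []).Perm l
  | [] => List.Perm.refl _
  | c :: l => (insW_perm X c _).trans ((foldr_insW_perm X l).cons c)

theorem exists_perm_map {α β : Type*} (f : α → β) : ∀ {m : List β} {l : List α}, m.Perm (l.map f) →
    ∃ l' : List α, l'.Perm l ∧ l'.map f = m
  | [], l, h => ⟨[], by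
      have := h.symm.eq_nil
      simp only [List.map_eq_nil_iff] at this
      subst this; exact List.Perm.refl _, rfl⟩
  | c :: m, l, h => by
    classical
    obtain ⟨a, ha, rfl⟩ := List.mem_map.1 ((h.mem_iff (a := c)).1 (by simp))
    have h1 : (f a :: m).Perm (f a :: (l.erase a).map f) :=
      h.trans ((List.perm_cons_erase ha).map f)
    obtain ⟨l', hl', e⟩ := exists_perm_map f h1.cons_inv
    exact ⟨a :: l', (hl'.cons a).trans (List.perm_cons_erase ha).symm, by rw [List.map_cons, e]⟩

/-- One cube term against the weights. -/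
theorem mem_primesIn {lo hi q : ℕ} (hq : q.Prime) (h1 : lo ≤ q) (h2 : q < hi) : q ∈ primesIn lo hi := by
  simp only [primesIn, List.mem_filter, List.mem_map, List.mem_range, List.all_eq_true, decide_eq_true_eq]
  refine ⟨⟨q - lo, by omega, by omega⟩, fun d hd h => ?_⟩
  have hd' : d + 2 ≤ Nat.sqrt q := by omega
  have h4 := (Nat.mul_le_mul hd' hd').trans (Nat.sqrt_le q)
  have h5 := (hq.eq_one_or_self_of_dvd (d + 2) (Nat.dvd_of_mod_eq_zero h)).resolve_left (by omega)
  nlinarith

end Cfsg.Agent.NineSection.One
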