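import Cfsg.Agent.Lib.NineSection.One.Chars
import Cfsg.Agent.Lib.NineSection.One.Sound
import Cfsg.Agent.Lib.NineSection.One.Bound
import Cfsg.Agent.Lib.SelfThree.Simple
import Cfsg.Agent.BlocksChars.PQBlocks
import Cfsg.Agent.S4500

/-!
# The arithmetic of the constituents
-/

set_option autoImplicit false
set_option linter.style.haveILetI false
set_option linter.unusedSectionVars false

open scoped Classical

namespace Cfsg.Agent.NineSection.One

open Subgroup Cfsg.Agent.Blocks Cfsg.Agent.Characters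
open Cfsg.Agent.PrimeBlock (deg deg_cast deg_ne_one deg_trivIrr)
open scoped ComplexConjugate

universe u

variable {G : Type u} [Group G] [Finite G]

/-- The non-trivial constituents. -/
noncomputable def supp {x : G} (C : Coeffs x) : Finset (Cfsg.IrrCharacter G) :=
  (Set.toFinite {χ : Cfsg.IrrCharacter G | χ ≠ trivIrr G ∧ C.a χ ≠ 0}).toFinset

theorem mem_supp {x : G} {C : Coeffs x} {χ : Cfsg.IrrCharacter G} :
    χ ∈ supp C ↔ χ ≠ trivIrr G ∧ C.a χ ≠ 0 := by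
  simp [supp]

/-- The candidate of a constituent. -/
noncomputable def toCand {x : G} (q : ℕ) (C : Coeffs x) (χ : Cfsg.IrrCharacter G) : Cand :=
  ⟨(deg χ).factorization 2, (deg χ).factorization q, deg χ, C.a χ⟩

theorem factorization_pow_mul {p r i j : ℕ} (hp : p.Prime) (hr : r.Prime) (h : p ≠ r) :
    (p ^ i * r ^ j).factorization p = i := by
  rw [Nat.factorization_mul (pow_ne_zero _ hp.ne_zero) (pow_ne_zero _ hr.ne_zero), Finsupp.add_apply,
    Nat.Prime.factorization_pow hp, Nat.Prime.factorization_pow hr, Finsupp.single_eq_same,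
    Finsupp.single_eq_of_ne h, add_zero]

/-- The parameters. -/
structure Params (G : Type u) [Group G] (q A b : ℕ) : Prop where
  prime : q.Prime
  ne_two : q ≠ 2
  ne_three : q ≠ 3
  posA : 0 < A
  posb : 0 < b
  card : Nat.card G = 9 * (2 ^ A * q ^ b)

theorem Params.x_pos {q A b : ℕ} (hp : Params G q A b) : 0 < 2 ^ A * q ^ b :=
  Nat.mul_pos (Nat.two_pow_pos A) (pow_pos hp.prime.pos b)

theorem Params.factorization_two {q A b : ℕ} (hp : Params G q A b) :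
    (Nat.card G).factorization 2 = A := by
  rw [hp.card, Nat.factorization_mul (by norm_num) hp.x_pos.ne', Finsupp.add_apply,
    factorization_pow_mul Nat.prime_two hp.prime (Ne.symm hp.ne_two),
    Nat.factorization_eq_zero_of_not_dvd (show ¬ 2 ∣ 9 by norm_num), zero_add]

theorem Params.factorization_q {q A b : ℕ} (hp : Params G q A b) :
    (Nat.card G).factorization q = b := by
  rw [hp.card, mul_comm (2 ^ A), Nat.factorization_mul (by norm_num)
      (mul_ne_zero (pow_ne_zero _ hp.prime.ne_zero) (pow_ne_zero _ two_ne_zero)), Finsupp.add_apply,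
    factorization_pow_mul hp.prime Nat.prime_two hp.ne_two,
    Nat.factorization_eq_zero_of_not_dvd (show ¬ q ∣ 9 from fun h => hp.ne_three
      ((Nat.prime_dvd_prime_iff_eq hp.prime Nat.prime_three).1
        (hp.prime.dvd_of_dvd_pow (show q ∣ 3 ^ 2 from h)))), zero_add]

theorem int_dvd_of_mul {m : ℕ} {z : ℤ} {w : ℂ} (hw : IsIntegral ℤ w) (h : (z : ℂ) = (m : ℂ) * w) :
    (m : ℤ) ∣ z := by
  rcases Nat.eq_zero_or_pos m with rfl | hm
  · rw [Nat.cast_zero, zero_mul] at h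
    rw [Int.cast_eq_zero.1 h]
    exact dvd_zero _
  have hmC : (m : ℂ) ≠ 0 := Nat.cast_ne_zero.2 hm.ne'
  obtain ⟨k, hk⟩ := exists_int_of_isIntegral_ratCast (q := (z : ℚ) / m) (by
    have e : (((z : ℚ) / m : ℚ) : ℂ) = w := by
      push_cast
      rw [h, mul_div_cancel_left₀ _ hmC]
    rw [e]; exact hw)
  refine ⟨k, ?_⟩
  push_cast at hk
  rw [h, mul_div_cancel_left₀ _ hmC] at hk
  rw [hk] at h
  exact_mod_cast h

namespace OneClass

variable {P : Sylow 3 G} (hO : OneClass P) {x : G} (hx : x ∈ (P : Subgroup G)) (hx1 : x ≠ 1)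
  (C : Coeffs x) {q A b : ℕ} (hp : Params G q A b) [IsSimpleGroup G] (hG : ¬ IsMulCommutative G)
include hO hx hx1 hp hG

theorem sum_supp {M : Type*} [AddCommMonoid M] [Fintype (Cfsg.IrrCharacter G)] (F : Cfsg.IrrCharacter G → M)
    (hF : ∀ χ, C.a χ = 0 → F χ = 0) : ∑ χ, F χ = F (trivIrr G) + ∑ χ ∈ supp C, F χ := by
  have hn : trivIrr G ∉ supp C := fun h => (mem_supp.1 h).1 rfl
  rw [← Finset.sum_insert hn]
  refine (Finset.sum_subset (Finset.subset_univ _) fun χ _ hχ => hF χ ?_).symm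
  by_contra h0
  simp only [Finset.mem_insert, mem_supp, not_or] at hχ
  exact hχ.2 ⟨hχ.1, h0⟩

theorem supp_sq : ∑ χ ∈ supp C, C.a χ * C.a χ = 8 := by
  haveI := Fintype.ofFinite (Cfsg.IrrCharacter G)
  have h := hO.sum_sq hx hx1 C
  rw [hO.sum_supp hx hx1 C hp hG (fun χ => C.a χ * C.a χ) (fun χ e => by rw [e, mul_zero]),
    hO.a_triv hx hx1 C] at h
  linarith

theorem supp_deg : 1 + ∑ χ ∈ supp C, C.a χ * (deg χ : ℤ) = 0 := by
  haveI := Fintype.ofFinite (Cfsg.IrrCharacter G)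
  have h := hO.sum_deg hx hx1 C
  rw [hO.sum_supp hx hx1 C hp hG (fun χ => C.a χ * (deg χ : ℤ)) (fun χ e => by rw [e, zero_mul]),
    hO.a_triv hx hx1 C, deg_trivIrr] at h
  simpa using h

theorem supp_deg_sq : 1 + ∑ χ ∈ supp C, deg χ * deg χ ≤ Nat.card G := by
  haveI := Fintype.ofFinite (Cfsg.IrrCharacter G)
  have hn : trivIrr G ∉ supp C := fun h => (mem_supp.1 h).1 rfl
  have h := hO.sum_deg_sq_lt hx hx1 (insert (trivIrr G) (supp C))
  rwa [Finset.sum_insert hn, deg_trivIrr] at h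

theorem deg_form {χ : Cfsg.IrrCharacter G} (hχ : χ ∈ supp C) :
    ∃ i j, i ≤ A ∧ j ≤ b ∧ deg χ = 2 ^ i * q ^ j ∧ (deg χ).factorization 2 = i ∧
      (deg χ).factorization q = j := by
  obtain ⟨hne, ha⟩ := mem_supp.1 hχ
  haveI := Fintype.ofFinite G
  obtain ⟨-, h3, -⟩ := hO.sgn_eq hx hx1 C hne ha
  have hd : deg χ ∣ 9 * (2 ^ A * q ^ b) := hp.card ▸ BlocksChars.Degrees.charDegree_dvd_card χ
  have hd' : deg χ ∣ 2 ^ A * q ^ b := by
    refine Nat.Coprime.dvd_of_dvd_mul_left ?_ hd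
    rw [show (9 : ℕ) = 3 ^ 2 by norm_num]
    exact ((Nat.prime_three.coprime_iff_not_dvd.2 h3).symm).pow_right 2
  obtain ⟨d1, d2, h1, h2, e⟩ := Nat.dvd_mul.1 hd'
  obtain ⟨i, hi, rfl⟩ := (Nat.dvd_prime_pow Nat.prime_two).1 h1
  obtain ⟨j, hj, rfl⟩ := (Nat.dvd_prime_pow hp.prime).1 h2
  refine ⟨i, j, hi, hj, e.symm, ?_, ?_⟩
  · rw [← e, factorization_pow_mul Nat.prime_two hp.prime (Ne.symm hp.ne_two)]
  · rw [← e, mul_comm, factorization_pow_mul hp.prime Nat.prime_two hp.ne_two]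

theorem dvd_x {χ : Cfsg.IrrCharacter G} (hχ : χ ∈ supp C) : deg χ ∣ 2 ^ A * q ^ b := by
  obtain ⟨i, j, hi, hj, e, -, -⟩ := hO.deg_form hx hx1 C hp hG hχ
  rw [e]
  exact mul_dvd_mul (pow_dvd_pow 2 hi) (pow_dvd_pow q hj)

theorem mem_cands_toCand {χ : Cfsg.IrrCharacter G} (hχ : χ ∈ supp C) :
    toCand q C χ ∈ cands q A b ∧ 1 ≤ (toCand q C χ).w := by
  obtain ⟨hne, ha⟩ := mem_supp.1 hχ
  obtain ⟨hs, h3, hle⟩ := hO.sgn_eq hx hx1 C hne ha
  obtain ⟨i, j, hi, hj, e, e2, eq'⟩ := hO.deg_form hx hx1 C hp hG hχ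
  have hlt : deg χ * deg χ < 9 * (2 ^ A * q ^ b) := by
    have h := hO.supp_deg_sq hx hx1 C hp hG
    have h2 : deg χ * deg χ ≤ ∑ ψ ∈ supp C, deg ψ * deg ψ :=
      Finset.single_le_sum (f := fun ψ => deg ψ * deg ψ) (fun ψ _ => Nat.zero_le _) hχ
    rw [hp.card] at h
    omega
  have h2le : 2 ≤ deg χ := by
    have h1 := deg_ne_one hG hne
    have h0 : deg χ ≠ 0 := fun e0 => h3 (e0 ▸ dvd_zero 3)
    omega
  refine ⟨?_, ?_⟩
  · have hm := mem_cands (q := q) (A := A) (b := b) hi hj (e ▸ h2le) (e ▸ hlt) (by rw [← e, ← hs]; exact ha)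
    have : toCand q C χ = ⟨i, j, 2 ^ i * q ^ j, sgnVal (2 ^ i * q ^ j % 9)⟩ := by
      rw [toCand, e2, eq', hs, e]
    rw [this]; exact hm
  · simp only [Cand.w, toCand]
    have : (C.a χ).natAbs ≠ 0 := Int.natAbs_ne_zero.2 ha
    exact Nat.mul_pos (Nat.pos_of_ne_zero this) (Nat.pos_of_ne_zero this)

theorem sq_le {χ : Cfsg.IrrCharacter G} (hχ : χ ∈ supp C) : C.a χ * (deg χ : ℤ) % 9 = (C.a χ * C.a χ) % 9 := by
  obtain ⟨m, hm⟩ := hO.restrict_nat hx hx1 C χ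
  have e : C.a χ * (deg χ : ℤ) = C.a χ * C.a χ + 9 * (C.a χ * ((m : ℤ) - C.a χ)) := by
    linear_combination (C.a χ) * hm
  rw [e, Int.add_mul_emod_self_left]

/-- Half of the constituents give a multiple of the two-part and of the `q`-part. -/
theorem exists_block {r e : ℕ} (hr : r.Prime) (hr3 : r ≠ 3) (he : (Nat.card G).factorization r = e) :
    ∃ D : Finset (Cfsg.IrrCharacter G), D ⊆ supp C ∧ (∀ χ ∈ D, ∀ k, deg χ ≠ r ^ k) ∧
      ((r ^ e : ℕ) : ℤ) ∣ 1 + ∑ χ ∈ D, C.a χ * (deg χ : ℤ) := by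
  haveI := Fintype.ofFinite G
  haveI := Fintype.ofFinite (Cfsg.IrrCharacter G)
  haveI : Fact (Nat.Prime 3) := ⟨Nat.prime_three⟩
  haveI := Fact.mk hr
  obtain ⟨M3, hM3⟩ := BlockCharsA.DefectZeroVanish.exists_modular Nat.prime_three
  obtain ⟨Mr, hMr⟩ := BlockCharsA.DefectZeroVanish.exists_modular hr
  set B := Cfsg.principalBlock M3 G ∩ Cfsg.principalBlock Mr G with hB
  obtain ⟨ω, hω⟩ := BlocksChars.PQBlocks.pq_block_sum (Ne.symm hr3) hM3 hMr
    (fun g => hO.no_order hr.ne_one g) he (isPBlock_principal M3 G) (isPBlock_principal Mr G)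
    (y := x) (by rw [hO.order_eq hx hx1])
  set D := (supp C).filter fun χ => χ ∈ B with hD
  have hnc : ∃ a c : G, a * c ≠ c * a := by
    by_contra h
    push Not at h
    exact hG ⟨⟨h⟩⟩
  refine ⟨D, Finset.filter_subset _ _, fun χ hχ k hk => ?_, ?_⟩
  · obtain ⟨h1, h2⟩ := Finset.mem_filter.1 hχ
    refine (mem_supp.1 h1).1 (eq_trivIrr_of_degree_pow hMr hnc h2.2 (k := k) ?_)
    rw [← deg_cast, hk, Nat.cast_pow]
  · refine int_dvd_of_mul ω.2 ?_
    rw [Nat.cast_pow, ← hω, finsum_mem_def, finsum_eq_sum_of_fintype]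
    simp only [Set.indicator_apply]
    rw [hO.sum_supp hx hx1 C hp hG _ (fun χ e => by rw [C.value χ, e]; simp),
      if_pos ⟨trivIrr_mem_principal hM3, trivIrr_mem_principal hMr⟩, hD, Finset.sum_filter]
    push_cast
    congr 1
    · have hd1 : (Cfsg.charDegree ((trivIrr G : Cfsg.IrrCharacter G) : G → ℂ)) = 1 := deg_trivIrr
      rw [C.value, hO.a_triv hx hx1 C, hd1]
      norm_num
    · refine Finset.sum_congr rfl fun χ _ => ?_
      split_ifs with h
      · rw [C.value, charDegree_cast, ← deg_cast, mul_comm]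
      · rfl

/-- The two parts of the order are comparable. -/
theorem part_le {r e : ℕ} (hr : r.Prime) (hr3 : r ≠ 3) (he : (Nat.card G).factorization r = e)
    (hex : ∃ χ : Cfsg.IrrCharacter G, χ ≠ trivIrr G ∧ ∃ k, deg χ = r ^ k) :
    ∃ D : Finset (Cfsg.IrrCharacter G), D ⊆ supp C ∧ (∀ χ ∈ D, ∀ k, deg χ ≠ r ^ k) ∧
      ((r ^ e : ℕ) : ℤ) ∣ 1 + ∑ χ ∈ D, C.a χ * (deg χ : ℤ) ∧
      ((r ^ e : ℕ) : ℤ) ≤ |1 + ∑ χ ∈ D, C.a χ * (deg χ : ℤ)| := by
  obtain ⟨D, hDs, hDr, hdvd⟩ := hO.exists_block hx hx1 C hp hG hr hr3 he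
  refine ⟨D, hDs, hDr, hdvd, ?_⟩
  obtain ⟨ψ, hψ1, k, hψ⟩ := hex
  have hψs : ψ ∈ supp C := mem_supp.2 ⟨hψ1, hO.a_ne_zero hx hx1 C (fun h => by
    rw [hψ] at h
    exact hr3 ((Nat.prime_dvd_prime_iff_eq Nat.prime_three hr).1
      (Nat.prime_three.dvd_of_dvd_pow ((show 3 ∣ 9 by norm_num).trans h))).symm)⟩
  have hne : (1 + ∑ χ ∈ D, C.a χ * (deg χ : ℤ)) ≠ 0 := by
    intro h0
    have hmod : (1 + ∑ χ ∈ D, C.a χ * C.a χ) % 9 = (1 + ∑ χ ∈ D, C.a χ * (deg χ : ℤ)) % 9 := by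
      rw [Int.add_emod, Finset.sum_int_mod, Int.add_emod 1 (∑ χ ∈ D, C.a χ * (deg χ : ℤ)),
        Finset.sum_int_mod D 9 (fun χ => C.a χ * (deg χ : ℤ))]
      congr 2
      exact congrArg (· % 9) (Finset.sum_congr rfl fun χ hχ => (hO.sq_le hx hx1 C hp hG (hDs hχ)).symm)
    rw [h0] at hmod
    have hsub : insert ψ D ⊆ supp C := Finset.insert_subset hψs hDs
    have hψD : ψ ∉ D := fun h => hDr ψ h k hψ
    have hle := Finset.sum_le_sum_of_subset_of_nonneg (f := fun χ => C.a χ * C.a χ) hsub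
      (fun χ _ _ => mul_self_nonneg _)
    rw [Finset.sum_insert hψD, hO.supp_sq hx hx1 C hp hG] at hle
    have h1 : 1 ≤ C.a ψ * C.a ψ := Int.add_one_le_iff.2 (mul_self_pos.2 (mem_supp.1 hψs).2)
    have h2 : 0 ≤ ∑ χ ∈ D, C.a χ * C.a χ := Finset.sum_nonneg fun χ _ => mul_self_nonneg _
    omega
  exact Int.le_of_dvd (abs_pos.2 hne) ((dvd_abs _ _).2 hdvd)

theorem exists_pow_char :
    (∃ χ : Cfsg.IrrCharacter G, χ ≠ trivIrr G ∧ ∃ k, deg χ = 2 ^ k) ∧
      (∃ χ : Cfsg.IrrCharacter G, χ ≠ trivIrr G ∧ ∃ k, deg χ = q ^ k) := by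
  obtain ⟨⟨χ, hχ, k, hk⟩, ⟨ψ, hψ, l, hl⟩⟩ := S4500.result (G := G) 3 2 q 2 A b Nat.prime_three Nat.prime_two
    hp.prime (by norm_num) (Ne.symm hp.ne_three) (Ne.symm hp.ne_two) le_rfl (by rw [hp.card]; ring)
  exact ⟨⟨χ, fun e => hχ (by rw [e]; rfl), k, hk⟩, ⟨ψ, fun e => hψ (by rw [e]; rfl), l, hl⟩⟩

include C in
theorem four_le {r e : ℕ} (hr : r.Prime) (hr3 : r ≠ 3) (he : (Nat.card G).factorization r = e)
    (hex : ∃ χ : Cfsg.IrrCharacter G, χ ≠ trivIrr G ∧ ∃ k, deg χ = r ^ k) :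
    4 * (r ^ e * r ^ e) ≤ 81 * (2 ^ A * q ^ b) := by
  obtain ⟨D, hDs, -, -, hle⟩ := hO.part_le hx hx1 C hp hG hr hr3 he hex
  have hsum := hO.supp_deg hx hx1 C hp hG
  have hn : trivIrr G ∉ supp C := fun h => (mem_supp.1 h).1 rfl
  rw [← Finset.sum_sdiff hDs] at hsum
  have h1 : 2 * ((r ^ e : ℕ) : ℤ) ≤ ∑ χ ∈ insert (trivIrr G) (supp C), |C.a χ| * (deg χ : ℤ) := by
    rw [Finset.sum_insert hn, hO.a_triv hx hx1 C, deg_trivIrr, ← Finset.sum_sdiff hDs]
    have habs : ∀ s : Finset (Cfsg.IrrCharacter G),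
        |∑ χ ∈ s, C.a χ * (deg χ : ℤ)| ≤ ∑ χ ∈ s, |C.a χ| * (deg χ : ℤ) := fun s =>
      (Finset.abs_sum_le_sum_abs _ _).trans (le_of_eq (Finset.sum_congr rfl fun χ _ => by
        rw [abs_mul, Nat.abs_cast]))
    have e1 := habs D
    have e2 := habs (supp C \ D)
    have e3 : |1 + ∑ χ ∈ D, C.a χ * (deg χ : ℤ)| = |∑ χ ∈ supp C \ D, C.a χ * (deg χ : ℤ)| := by
      rw [show 1 + ∑ χ ∈ D, C.a χ * (deg χ : ℤ) = -∑ χ ∈ supp C \ D, C.a χ * (deg χ : ℤ) by linarith, abs_neg]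
    have e4 := abs_add_le (1 : ℤ) (∑ χ ∈ D, C.a χ * (deg χ : ℤ))
    rw [abs_one] at e4 ⊢
    push_cast
    push_cast at hle
    linarith
  have h2 := Finset.sum_mul_sq_le_sq_mul_sq (insert (trivIrr G) (supp C)) (fun χ => |C.a χ|)
    (fun χ => (deg χ : ℤ))
  have h3 : ∑ χ ∈ insert (trivIrr G) (supp C), |C.a χ| ^ 2 = 9 := by
    rw [Finset.sum_congr rfl fun χ _ => sq_abs (C.a χ)]
    simp only [pow_two]
    rw [Finset.sum_insert hn, hO.supp_sq hx hx1 C hp hG, hO.a_triv hx hx1 C]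
    norm_num
  have h4 : ∑ χ ∈ insert (trivIrr G) (supp C), (deg χ : ℤ) ^ 2 ≤ 9 * ((2 ^ A * q ^ b : ℕ) : ℤ) := by
    have h := hO.supp_deg_sq hx hx1 C hp hG
    rw [hp.card] at h
    rw [Finset.sum_insert hn, deg_trivIrr]
    simp only [pow_two]
    exact_mod_cast h
  have h5 : (2 * ((r ^ e : ℕ) : ℤ)) ^ 2 ≤ 9 * (9 * ((2 ^ A * q ^ b : ℕ) : ℤ)) := by
    refine (pow_le_pow_left₀ (by positivity) h1 2).trans (h2.trans ?_)
    rw [h3]
    exact mul_le_mul_of_nonneg_left h4 (by norm_num)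
  have h6 : ((4 * (r ^ e * r ^ e) : ℕ) : ℤ) ≤ ((81 * (2 ^ A * q ^ b) : ℕ) : ℤ) := by
    push_cast at h5 ⊢
    linarith
  exact_mod_cast h6

/-- Nine times the number of pairs. -/
theorem count_eq : (9 * ((pairs x).ncard : ℤ)) =
    ((2 ^ A * q ^ b : ℕ) : ℤ) + ∑ χ ∈ supp C, C.a χ * C.a χ * C.a χ * (((2 ^ A * q ^ b) / deg χ : ℕ) : ℤ) := by
  haveI := Fintype.ofFinite (Cfsg.IrrCharacter G)
  set X := 2 ^ A * q ^ b with hX
  have hcc := SelfThree.class_constant x x x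
  have hpairs : Nat.card {p : G × G // IsConj x p.1 ∧ IsConj x p.2 ∧ p.1 * p.2 = x} = (pairs x).ncard := by
    rw [← Nat.card_coe_set_eq]
    refine Nat.card_congr
      { toFun := fun p => ⟨p.1.1, ?_, ?_⟩
        invFun := fun y => ⟨((y : G), (y : G)⁻¹ * x), hO.isConj hx hx1 y.2.1, hO.isConj hx hx1 y.2.2,
          mul_inv_cancel_left _ _⟩
        left_inv := fun p => Subtype.ext (Prod.ext rfl (by
          obtain ⟨⟨a, c⟩, -, -, e⟩ := p
          change a⁻¹ * x = c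
          rw [← e, inv_mul_cancel_left]))
        right_inv := fun y => rfl }
    · obtain ⟨c, hc⟩ := isConj_iff.1 p.2.1
      rw [← hc, show orderOf (c * x * c⁻¹) = orderOf x from
        orderOf_injective (MulAut.conj c).toMonoidHom (MulAut.conj c).injective x, hO.order_eq hx hx1]
    · obtain ⟨c, hc⟩ := isConj_iff.1 p.2.2.1
      rw [show p.1.1⁻¹ * x = p.1.2 by rw [inv_mul_eq_iff_eq_mul, p.2.2.2], ← hc,
        show orderOf (c * x * c⁻¹) = orderOf x from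
          orderOf_injective (MulAut.conj c).toMonoidHom (MulAut.conj c).injective x, hO.order_eq hx hx1]
  rw [hpairs, hO.cent x hx hx1, hO.card, hp.card, ← hX,
    hO.sum_supp hx hx1 C hp hG _ (fun χ e => by rw [C.value χ, e]; simp), C.value, hO.a_triv hx hx1 C] at hcc
  have hterm : ∀ χ ∈ supp C, (X : ℂ) * ((χ : G → ℂ) x * (χ : G → ℂ) x * conj ((χ : G → ℂ) x) / (χ : G → ℂ) 1)
      = ((C.a χ * C.a χ * C.a χ * ((X / deg χ : ℕ) : ℤ) : ℤ) : ℂ) := by
    intro χ hχ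
    obtain ⟨k, hk⟩ := hO.dvd_x hx hx1 C hp hG hχ
    rw [← hX] at hk
    have h0 : deg χ ≠ 0 := fun e => (hp.x_pos).ne' (by rw [← hX, hk, e, zero_mul])
    have hdiv : X / deg χ = k := by rw [hk, Nat.mul_div_cancel_left _ (Nat.pos_of_ne_zero h0)]
    rw [hdiv, C.value, map_intCast, ← deg_cast, hk]
    push_cast
    field_simp
  have hfin : ((9 * (((pairs x).ncard : ℕ) : ℤ) : ℤ) : ℂ) =
      (((X : ℕ) : ℤ) + ∑ χ ∈ supp C, C.a χ * C.a χ * C.a χ * ((X / deg χ : ℕ) : ℤ) : ℤ) := by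
    have h1 : (trivIrr G : G → ℂ) 1 = 1 := rfl
    rw [h1, map_intCast] at hcc
    push_cast at hcc
    rw [Int.cast_add, Int.cast_sum, ← Finset.sum_congr rfl hterm, ← Finset.mul_sum]
    push_cast
    linear_combination hcc / 9
  exact_mod_cast hfin

omit hG in
/-- Conjugation by `P` off `P` is free. -/
theorem count_mod : (pairs x).ncard % 9 = 7 := by
  set Pin : Set G := ((P : Subgroup G) : Set G) \ {1, x} with hPin
  have hsub : Pin ⊆ pairs x := by
    rintro y ⟨hy, hy'⟩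
    simp only [Set.mem_insert_iff, Set.mem_singleton_iff, not_or] at hy'
    exact ⟨hO.order_eq hy hy'.1, hO.order_eq (mul_mem (inv_mem hy) hx) fun e => hy'.2 (inv_mul_eq_one.1 e)⟩
  have hP7 : Pin.ncard = 7 := by
    rw [hPin, Set.ncard_sdiff (by
      rintro g (rfl | rfl)
      exacts [one_mem _, hx]) (Set.toFinite _), ← Nat.card_coe_set_eq,
      show Nat.card ((P : Subgroup G) : Set G) = 9 from hO.card, Set.ncard_pair (Ne.symm hx1)]
  set Sout := pairs x \ Pin with hSout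
  have hout : ∀ y ∈ Sout, y ∉ (P : Subgroup G) := by
    rintro y ⟨⟨hy1, hy2⟩, hy'⟩ hyP
    refine hy' ⟨hyP, ?_⟩
    rintro (rfl | rfl)
    · rw [orderOf_one] at hy1; norm_num at hy1
    · rw [inv_mul_cancel, orderOf_one] at hy2; norm_num at hy2
  haveI : Fintype (P : Subgroup G) := Fintype.ofFinite _
  set orb : G → Finset G := fun y => Finset.univ.image (fun p : (P : Subgroup G) => (p : G) * y * (p : G)⁻¹)
    with horb
  have hconj : ∀ p ∈ (P : Subgroup G), ∀ y ∈ Sout, p * y * p⁻¹ ∈ Sout := by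
    intro p hp' y hy
    have ho : ∀ w : G, orderOf (p * w * p⁻¹) = orderOf w := fun w =>
      orderOf_injective (MulAut.conj p).toMonoidHom (MulAut.conj p).injective w
    refine ⟨⟨(ho y).trans hy.1.1, ?_⟩, fun h => hout y hy ?_⟩
    · have e : (p * y * p⁻¹)⁻¹ * x = p * (y⁻¹ * x) * p⁻¹ := by
        calc (p * y * p⁻¹)⁻¹ * x = p * y⁻¹ * (p⁻¹ * x) := by group
          _ = p * y⁻¹ * (x * p⁻¹) := by rw [hO.comm (inv_mem hp') hx]
          _ = _ := by group
      rw [e, ho]; exact hy.1.2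
    · have := mul_mem (mul_mem (inv_mem hp') h.1) hp'
      simpa [mul_assoc] using this
  have h9 : ∀ y ∈ Sout, (orb y).card = 9 := by
    intro y hy
    rw [horb, Finset.card_image_of_injective _ ?_, Finset.card_univ, ← Nat.card_eq_fintype_card, hO.card]
    intro p p' e
    by_contra hne
    refine hout y hy (hO.mem_of_comm (k := (p' : G)⁻¹ * p) (mul_mem (inv_mem p'.2) p.2)
      (fun e1 => hne (Subtype.ext (inv_mul_eq_one.1 e1).symm)) ?_)
    calc (p' : G)⁻¹ * p * y = (p' : G)⁻¹ * ((p : G) * y * (p : G)⁻¹) * p := by group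
      _ = (p' : G)⁻¹ * ((p' : G) * y * (p' : G)⁻¹) * p := by rw [show (p : G) * y * (p : G)⁻¹ = _ from e]
      _ = _ := by group
  set T := (Set.toFinite Sout).toFinset with hT
  have hdvd : 9 ∣ T.card := by
    rw [Finset.card_eq_sum_card_image orb T]
    refine Finset.dvd_sum fun o ho => ?_
    obtain ⟨y, hy, rfl⟩ := Finset.mem_image.1 ho
    have hy' : y ∈ Sout := (Set.Finite.mem_toFinset _).1 hy
    have e : T.filter (fun w => orb w = orb y) = orb y := by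
      ext w
      simp only [Finset.mem_filter, hT, Set.Finite.mem_toFinset]
      constructor
      · rintro ⟨-, e⟩
        rw [← e]
        exact Finset.mem_image.2 ⟨1, Finset.mem_univ _, by simp⟩
      · intro hw
        obtain ⟨p, -, rfl⟩ := Finset.mem_image.1 hw
        refine ⟨hconj p p.2 y hy', ?_⟩
        ext v
        simp only [horb, Finset.mem_image, Finset.mem_univ, true_and]
        exact ⟨fun ⟨r, hr⟩ => ⟨r * p, by rw [← hr]; simp [mul_assoc]⟩,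
          fun ⟨r, hr⟩ => ⟨r * p⁻¹, by rw [← hr]; simp [mul_assoc]⟩⟩
    rw [e, h9 y hy']
  rw [hT, ← Set.ncard_eq_toFinset_card _ (Set.toFinite _), hSout, Set.ncard_sdiff hsub (Set.toFinite _),
    hP7] at hdvd
  have := Set.ncard_le_ncard hsub
  omega

end OneClass

end Cfsg.Agent.NineSection.One
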