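import Cfsg.Agent.Lib.NineSection.One.Setup

/-!
# Maximal invariant subgroups of order prime to three
-/

set_option autoImplicit false
set_option linter.style.haveILetI false
set_option linter.unusedSectionVars false

namespace Cfsg.Agent.NineSection.One

open Subgroup
open Cfsg.Agent.SelfThree (Inv Self Shape ShapeA MaxInv exists_maxInv inv_comap inv_map
  shape_of_self normalizer_ne_top_of_ne_bot)

universe u

variable {G : Type u} [Group G] [Finite G]

/-- The part `L` of `H` in the first shape. -/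
theorem le_of_first {x : G} {H : Subgroup G} {hxH : x ∈ H} (hxs : Self (⟨x, hxH⟩ : H)) {K : Subgroup H}
    [K.Normal] (hK : K.index = 3 ∨ K.index = 6) (h3K : ¬ 3 ∣ Nat.card K) {L : Subgroup G} (hLH : L ≤ H)
    (hi : Inv x L) (h3 : ¬ 3 ∣ Nat.card L) : L ≤ K.map H.subtype := by
  have hiL : Inv (⟨x, hxH⟩ : H) (L.subgroupOf H) := inv_comap (f := H.subtype) hi
  have h3L : ¬ 3 ∣ Nat.card (L.subgroupOf H) := by
    rwa [Nat.card_congr (subgroupOfEquivOfLe hLH).toEquiv]
  have h3' : ¬ 3 ∣ Nat.card ((L.subgroupOf H).map (QuotientGroup.mk' K)) := fun h =>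
    h3L (h.trans (card_map_dvd _ _))
  have hmod := (hxs.quotient K h3K).card_mod_three (inv_map (QuotientGroup.mk'_surjective K) hiL) h3'
  have hd := card_subgroup_dvd_card ((L.subgroupOf H).map (QuotientGroup.mk' K))
  rw [← index_eq_card] at hd
  have h1 : Nat.card ((L.subgroupOf H).map (QuotientGroup.mk' K)) = 1 := by
    have hle : Nat.card ((L.subgroupOf H).map (QuotientGroup.mk' K)) ≤ 6 := by
      refine le_trans (Nat.le_of_dvd (Nat.pos_of_ne_zero index_ne_zero_of_finite) hd) ?_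
      omega
    generalize Nat.card ((L.subgroupOf H).map (QuotientGroup.mk' K)) = n at hmod hd h3' hle
    rcases hK with e | e <;> rw [e] at hd <;> interval_cases n <;> omega
  rw [card_eq_one, Subgroup.map_eq_bot_iff, QuotientGroup.ker_mk'] at h1
  intro g hg
  exact ⟨⟨g, hLH hg⟩, h1 (mem_subgroupOf.2 hg), rfl⟩

/-- The image of a normal subgroup of `H` is invariant under `H`. -/
theorem inv_map_subtype {H : Subgroup G} (K : Subgroup H) [K.Normal] {y : G} (hy : y ∈ H) :
    Inv y (K.map H.subtype) :=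
  le_normalizer_map H.subtype ⟨⟨y, hy⟩, by rw [normalizer_eq_top]; exact mem_top _, rfl⟩

theorem not3_map_subtype {H : Subgroup G} {K : Subgroup H} (hK : ¬ 3 ∣ Nat.card K) :
    ¬ 3 ∣ Nat.card (K.map H.subtype) := by
  rwa [card_map_of_injective H.subtype_injective]

namespace OneClass

variable {P : Sylow 3 G} (hO : OneClass P) {x : G} (hx : x ∈ (P : Subgroup G)) (hx1 : x ≠ 1)
include hO hx hx1

theorem isNilpotent {D : Subgroup G} (hi : Inv x D) (h3 : ¬ 3 ∣ Nat.card D) : Group.IsNilpotent D := by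
  by_cases hD : D = ⊥
  · subst hD
    infer_instance
  · haveI := (hO.self_normalizer hx hx1 hD h3 hi).isNilpotent (H := D.subgroupOf (normalizer (D : Set G)))
      (inv_comap (f := (normalizer (D : Set G)).subtype) hi)
      (by rwa [Nat.card_congr (subgroupOfEquivOfLe le_normalizer).toEquiv])
    exact Group.nilpotent_of_mulEquiv (subgroupOfEquivOfLe le_normalizer)

theorem card_mod_three {D : Subgroup G} (hi : Inv x D) (h3 : ¬ 3 ∣ Nat.card D) :
    Nat.card D % 3 = 1 := by
  by_cases hD : D = ⊥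
  · rw [hD, card_bot]
  · have h := (hO.self_normalizer hx hx1 hD h3 hi).card_mod_three
      (H := D.subgroupOf (normalizer (D : Set G)))
      (inv_comap (f := (normalizer (D : Set G)).subtype) hi)
      (by rwa [Nat.card_congr (subgroupOfEquivOfLe le_normalizer).toEquiv])
    rwa [Nat.card_congr (subgroupOfEquivOfLe le_normalizer).toEquiv] at h

theorem exists_conj_of_coset {D : Subgroup G} (hi : Inv x D) (h3 : ¬ 3 ∣ Nat.card D) {n : G} (hn : n ∈ D) :
    ∃ h ∈ D, h * x * h⁻¹ = n * x := by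
  by_cases hD : D = ⊥
  · refine ⟨1, one_mem D, ?_⟩
    rw [hD, mem_bot] at hn
    simp [hn]
  · obtain ⟨h, hh, e⟩ := (hO.self_normalizer hx hx1 hD h3 hi).exists_conj_of_coset
      (H := D.subgroupOf (normalizer (D : Set G)))
      (inv_comap (f := (normalizer (D : Set G)).subtype) hi)
      (by rwa [Nat.card_congr (subgroupOfEquivOfLe le_normalizer).toEquiv])
      (n := ⟨n, le_normalizer hn⟩) (mem_subgroupOf.2 hn)
    exact ⟨h, mem_subgroupOf.1 hh, congrArg Subtype.val e⟩

/-- The translates keep the properties. -/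
theorem inv_conj {D : Subgroup G} (hi : Inv x D) {p : G} (hp : p ∈ (P : Subgroup G)) :
    Inv x (D.map (MulAut.conj p).toMonoidHom) := by
  refine le_normalizer_map _ ⟨x, hi, ?_⟩
  change p * x * p⁻¹ = x
  rw [← hO.comm hx hp, mul_inv_cancel_right]

theorem maxInv_conj {M : Subgroup G} (hM : MaxInv x M) {p : G} (hp : p ∈ (P : Subgroup G)) :
    MaxInv x (M.map (MulAut.conj p).toMonoidHom) := by
  refine ⟨hO.inv_conj hx hx1 hM.inv hp, ?_, fun L hi h3 hle => ?_⟩
  · rw [card_map_of_injective (MulAut.conj p).injective]; exact hM.not3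
  · have h := hM.max (L.map (MulAut.conj p⁻¹).toMonoidHom) (hO.inv_conj hx hx1 hi (inv_mem hp))
      (by rwa [card_map_of_injective (MulAut.conj p⁻¹).injective]) ?_
    · rw [← h, Subgroup.map_map]
      convert (Subgroup.map_id L).symm
      ext; simp [mul_assoc]
    · intro m hm
      exact ⟨p * m * p⁻¹, hle ⟨m, hm, rfl⟩, by simp [mul_assoc]⟩

variable [IsSimpleGroup G] (hG : ¬ IsMulCommutative G)
include hG

theorem normalizer_char {M : Subgroup G} (hM : MaxInv x M) (Q : Subgroup M) [Q.Characteristic] (hQ : Q ≠ ⊥)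
    (hfull : ∀ K : Subgroup G, K ≤ M → Q.map M.subtype ≤ K → (∀ k ∈ K, k ^ 2 = 1) →
      Nat.card M = 4 * Nat.card K → False) :
    normalizer ((Q.map M.subtype : Subgroup G) : Set G) = normalizer (M : Set G) ∧
      (Nat.card (normalizer (M : Set G)) = 3 * Nat.card M ∨
        Nat.card (normalizer (M : Set G)) = 6 * Nat.card M) := by
  set D : Subgroup G := Q.map M.subtype with hD
  have hD0 : D ≠ ⊥ := fun e => hQ ((map_eq_bot_iff_of_injective _ M.subtype_injective).1 e)
  have hDM : D ≤ M := map_subtype_le Q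
  have hD3 : ¬ 3 ∣ Nat.card D := fun h => hM.not3 (h.trans (card_dvd_of_le hDM))
  have hle : normalizer (M : Set G) ≤ normalizer (D : Set G) := fun g hg => Inv.map_char hg Q
  have hxH : x ∈ normalizer (D : Set G) := hle hM.inv
  have hxs := hO.self_normalizer hx hx1 hD0 hD3 hxH
  set H := normalizer (D : Set G) with hH
  have hMH : M ≤ H := le_normalizer.trans hle
  obtain ⟨K, hKn, hK3, hcases⟩ := shape_of_self _ hxs rfl
  have hDn : (D.subgroupOf H).Normal := normal_in_normalizer
  rcases hcases with hI | hA | ⟨-, hs, h168⟩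
  · have hMK := le_of_first hxs hI hK3 hMH hM.inv hM.not3
    have hKM : K.map H.subtype = M := hM.max _ (inv_map_subtype K hxH) (not3_map_subtype hK3) hMK
    have hle' : H ≤ normalizer (M : Set G) := fun g hg => hKM ▸ inv_map_subtype K hg
    have heq : H = normalizer (M : Set G) := le_antisymm hle' hle
    refine ⟨heq, ?_⟩
    have h := card_mul_index K
    rw [← card_map_of_injective (K := K) H.subtype_injective, hKM] at h
    rw [← heq]
    rcases hI with e | e <;> rw [e] at h
    · left; rw [← h, mul_comm]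
    · right; rw [← h, mul_comm]
  · exfalso
    obtain ⟨T, U, -, hW, hall, -⟩ := hA.two_tops hxs
    have hDK : D ≤ K.map H.subtype := by
      haveI := hA.simple
      rcases (hDn.map _ (QuotientGroup.mk'_surjective K)).eq_bot_or_eq_top with e | e
      · intro g hg
        rw [Subgroup.map_eq_bot_iff, QuotientGroup.ker_mk'] at e
        exact ⟨⟨g, le_normalizer hg⟩, e (mem_subgroupOf.2 hg), rfl⟩
      · exfalso
        have h1 : Nat.card ↥((D.subgroupOf H).map (QuotientGroup.mk' K)) ∣ Nat.card (D.subgroupOf H) :=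
          card_map_dvd _ _
        rw [e, card_top, ← index_eq_card, hA.index,
          Nat.card_congr (subgroupOfEquivOfLe le_normalizer).toEquiv] at h1
        exact hD3 ((show 3 ∣ 60 by norm_num).trans h1)
    have hMi : Inv (⟨x, hxH⟩ : H) (M.subgroupOf H) := inv_comap (f := H.subtype) hM.inv
    have hM3' : ¬ 3 ∣ Nat.card (M.subgroupOf H) := by
      rw [Nat.card_congr (subgroupOfEquivOfLe hMH).toEquiv]; exact hM.not3
    obtain ⟨W, hW', hMW⟩ : ∃ W, (W = T ∨ W = U) ∧ M.subgroupOf H ≤ W := by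
      rcases hall _ hMi hM3' with h | h | h
      · exact ⟨T, Or.inl rfl, h.trans (hW T (Or.inl rfl)).1⟩
      · exact ⟨T, Or.inl rfl, h⟩
      · exact ⟨U, Or.inr rfl, h⟩
    obtain ⟨hKW, hWi, hW4⟩ := hW W hW'
    have hW3 : ¬ 3 ∣ Nat.card (W.map H.subtype) := by
      rw [card_map_of_injective H.subtype_injective, hW4]
      exact fun h => (Nat.prime_three.dvd_mul.1 h).elim (by norm_num) hK3
    have hWe : W.map H.subtype = M := hM.max _ (le_normalizer_map H.subtype ⟨_, hWi, rfl⟩) hW3
      fun m hm => ⟨⟨m, hMH hm⟩, hMW (mem_subgroupOf.2 hm), rfl⟩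
    refine hfull (K.map H.subtype) (hWe ▸ map_mono hKW) hDK ?_ ?_
    · rintro _ ⟨k, hk, rfl⟩
      rw [← map_pow, hA.sq k hk, map_one]
    · rw [← hWe, card_map_of_injective H.subtype_injective, card_map_of_injective H.subtype_injective, hW4]
  · exfalso
    rcases hDn.eq_bot_or_eq_top with e | e
    · rw [subgroupOf_eq_bot] at e
      exact hD0 (disjoint_iff.1 e ▸ (inf_of_le_left le_normalizer).symm)
    · rw [subgroupOf_eq_top] at e
      have hcard : Nat.card D = 168 := (congrArg (fun S : Subgroup G => Nat.card S) (le_antisymm le_normalizer e)).trans h168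
      exact hD3 (by rw [hcard]; norm_num)

theorem card_normalizer {M : Subgroup G} (hM : MaxInv x M) (h1 : M ≠ ⊥) :
    Nat.card (normalizer (M : Set G)) = 3 * Nat.card M ∨
      Nat.card (normalizer (M : Set G)) = 6 * Nat.card M := by
  refine (hO.normalizer_char hx hx1 hG hM (⊤ : Subgroup M) ?_ ?_).2
  · intro e
    haveI : Nontrivial M := M.nontrivial_iff_ne_bot.2 h1
    exact top_ne_bot e
  · intro K _ hMK _ h4
    rw [← MonoidHom.range_eq_map, range_subtype] at hMK
    have h := Nat.le_of_dvd Nat.card_pos (card_dvd_of_le hMK)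
    have : 0 < Nat.card K := Nat.card_pos
    omega

/-- A Sylow subgroup inside a maximal invariant subgroup. -/
theorem exists_sylow {M : Subgroup G} (hM : MaxInv x M) {p : ℕ} [hp : Fact p.Prime] (hpM : p ∣ Nat.card M)
    (hk : p = 2 → Nat.card (normalizer (M : Set G)) = 3 * Nat.card M) :
    ∃ S : Sylow p G, (S : Subgroup G) ≤ M ∧
      normalizer ((S : Subgroup G) : Set G) = normalizer (M : Set G) := by
  haveI := hO.isNilpotent hx hx1 hM.inv hM.not3
  have P₀ : Sylow p M := default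
  haveI hPn : (P₀ : Subgroup M).Normal := inferInstance
  haveI : (P₀ : Subgroup M).Characteristic := Sylow.characteristic_of_normal P₀ hPn
  have hP0 : (P₀ : Subgroup M) ≠ ⊥ := SmallSimple.Basic.sylow_ne_bot hpM P₀
  have hp3 : p ≠ 3 := fun e => hM.not3 (e ▸ hpM)
  obtain ⟨hN, hcard⟩ := hO.normalizer_char hx hx1 hG hM (P₀ : Subgroup M) hP0 (by
    intro K hKM hPK hsq h4
    have hK2 : IsPGroup 2 K := fun k => ⟨1, Subtype.ext (by simpa using hsq k k.2)⟩
    obtain ⟨n, hn⟩ := (IsPGroup.iff_card (p := 2) (G := K)).1 hK2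
    have hpdvd : p ∣ Nat.card K := by
      refine Nat.dvd_trans ?_ (card_dvd_of_le hPK)
      rw [card_map_of_injective M.subtype_injective]
      exact (P₀.2.card_eq_or_dvd).resolve_left (fun e => hP0 (card_eq_one.1 e))
    rw [hn] at hpdvd
    have hp2 : p = 2 := (Nat.prime_dvd_prime_iff_eq hp.out Nat.prime_two).1 (hp.out.dvd_of_dvd_pow hpdvd)
    subst hp2
    have htop : (P₀ : Subgroup M) = ⊤ := by
      refine P₀.3 ?_ le_top |>.symm
      exact IsPGroup.of_card (n := n + 2) (by rw [card_top, h4, hn]; ring)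
    rw [htop, ← MonoidHom.range_eq_map, range_subtype] at hPK
    have h := Nat.le_of_dvd Nat.card_pos (card_dvd_of_le hPK)
    have : 0 < Nat.card K := Nat.card_pos
    omega)
  set D : Subgroup G := (P₀ : Subgroup M).map M.subtype
  obtain ⟨R, hR⟩ := (P₀.2.map M.subtype).exists_le_sylow
  have hRD : (R : Subgroup G) = D := by
    by_contra hne
    haveI : Group.IsNilpotent (R : Subgroup G) := R.2.isNilpotent
    have hlt : D.subgroupOf (R : Subgroup G) < ⊤ := lt_top_iff_ne_top.2 fun e =>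
      hne (le_antisymm (subgroupOf_eq_top.1 e) hR)
    obtain ⟨r, hr, hrD⟩ := SetLike.exists_of_lt ((Group.normalizerCondition_of_isNilpotent _ hlt))
    have hrN : (r : G) ∈ normalizer (D : Set G) := by
      refine mem_normalizer_iff.2 fun g => ⟨fun hg => ?_, fun hg => ?_⟩
      · exact mem_subgroupOf.1 ((mem_normalizer_iff.1 hr ⟨g, hR hg⟩).1 hg)
      · have hgR : g ∈ (R : Subgroup G) := by
          have := mul_mem (mul_mem (inv_mem r.2) (hR hg)) r.2
          simpa [mul_assoc] using this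
        exact (mem_normalizer_iff.1 hr ⟨g, hgR⟩).2 (mem_subgroupOf.2 hg)
    rw [hN] at hrN
    have hbig : Nat.card D * p ∣ Nat.card (normalizer (M : Set G)) := by
      set E : Subgroup G := (R : Subgroup G) ⊓ normalizer (M : Set G)
      have hDE : D < E := lt_of_le_of_ne (le_inf hR ((map_subtype_le _).trans le_normalizer))
        (fun e => hrD (mem_subgroupOf.2 (e ▸ (⟨r.2, hrN⟩ : (r : G) ∈ E))))
      obtain ⟨a, ha⟩ := IsPGroup.iff_card.1 (P₀.2.map M.subtype : IsPGroup p D)
      obtain ⟨b, hb⟩ := IsPGroup.iff_card.1 (R.2.to_le (inf_le_left : E ≤ _))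
      have hab : a < b := by
        by_contra hge
        exact hDE.ne (eq_of_le_of_card_ge hDE.le (by
          rw [ha, hb]; exact Nat.pow_le_pow_right hp.out.pos (not_lt.1 hge)))
      refine Nat.dvd_trans ?_ (card_dvd_of_le (inf_le_right : E ≤ _))
      rw [ha, hb, ← pow_succ]
      exact pow_dvd_pow p hab
    have hDc : Nat.card D = Nat.card (P₀ : Subgroup M) := card_map_of_injective M.subtype_injective
    have hm := card_mul_index (P₀ : Subgroup M)
    have hnd := P₀.not_dvd_index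
    have hpos : 0 < Nat.card (P₀ : Subgroup M) := Nat.card_pos
    have key : ∀ k, Nat.card (normalizer (M : Set G)) = k * Nat.card M → p ∣ k := fun k e => by
      rw [e, hDc, ← hm, mul_left_comm] at hbig
      exact (hp.out.dvd_mul.1 (Nat.dvd_of_mul_dvd_mul_left hpos hbig)).resolve_right hnd
    rcases hcard with e | e
    · exact hp3 ((Nat.prime_dvd_prime_iff_eq hp.out Nat.prime_three).1 (key 3 e))
    · rcases hp.out.dvd_mul.1 (show p ∣ 2 * 3 from key 6 e) with h | h
      · have h2 := (Nat.prime_dvd_prime_iff_eq hp.out Nat.prime_two).1 h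
        have := hk h2
        have : 0 < Nat.card M := Nat.card_pos
        omega
      · exact hp3 ((Nat.prime_dvd_prime_iff_eq hp.out Nat.prime_three).1 h)
  refine ⟨R, ?_, ?_⟩ <;> rw [hRD]
  · exact map_subtype_le _
  · exact hN

/-- What the normalizer of a meet contains. -/
theorem meet_data {M N : Subgroup G} (hM : MaxInv x M) (hNi : Inv x N) (hN3 : ¬ 3 ∣ Nat.card N)
    (hNM : ¬ N ≤ M) (hne : M ⊓ N ≠ ⊥) :
    ∃ (hxH : x ∈ normalizer ((M ⊓ N : Subgroup G) : Set G)),
      Self (⟨x, hxH⟩ : normalizer ((M ⊓ N : Subgroup G) : Set G)) ∧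
      ¬ M ⊓ normalizer ((M ⊓ N : Subgroup G) : Set G) ≤ M ⊓ N ∧
      ¬ N ⊓ normalizer ((M ⊓ N : Subgroup G) : Set G) ≤ M ⊓ N ∧
      Inv x (M ⊓ normalizer ((M ⊓ N : Subgroup G) : Set G)) ∧
      Inv x (N ⊓ normalizer ((M ⊓ N : Subgroup G) : Set G)) := by
  set D := M ⊓ N with hD
  have hinf : ∀ A B : Subgroup G, Inv x A → Inv x B → Inv x (A ⊓ B) := fun A B hA hB =>
    mem_normalizer_iff.2 fun g => ⟨fun h => ⟨hA.conj_mem h.1, hB.conj_mem h.2⟩,
      fun h => ⟨(mem_normalizer_iff.1 hA g).2 h.1, (mem_normalizer_iff.1 hB g).2 h.2⟩⟩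
  have hDi : Inv x D := hinf M N hM.inv hNi
  have hD3 : ¬ 3 ∣ Nat.card D := fun h => hM.not3 (h.trans (card_dvd_of_le inf_le_left))
  have hxH : x ∈ normalizer (D : Set G) := hDi
  have hxs := hO.self_normalizer hx hx1 hne hD3 hxH
  have hHi : Inv x (normalizer (D : Set G)) := le_normalizer hxH
  have hgrow : ∀ A : Subgroup G, Inv x A → ¬ 3 ∣ Nat.card A → D ≤ A → D ≠ A →
      ¬ A ⊓ normalizer (D : Set G) ≤ D := by
    intro A hAi hA3 hDA hneA hle
    haveI := hO.isNilpotent hx hx1 hAi hA3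
    have hlt : D.subgroupOf A < ⊤ := lt_top_iff_ne_top.2 fun e =>
      hneA (le_antisymm hDA (subgroupOf_eq_top.1 e))
    obtain ⟨g, hg, hgD⟩ := SetLike.exists_of_lt (Group.normalizerCondition_of_isNilpotent _ hlt)
    refine hgD (mem_subgroupOf.2 (hle ⟨g.2, ?_⟩))
    refine mem_normalizer_iff.2 fun v => ⟨fun hv => ?_, fun hv => ?_⟩
    · exact mem_subgroupOf.1 ((mem_normalizer_iff.1 hg ⟨v, hDA hv⟩).1 hv)
    · have hvA : v ∈ A := by
        have := mul_mem (mul_mem (inv_mem g.2) (hDA hv)) g.2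
        simpa [mul_assoc] using this
      exact (mem_normalizer_iff.1 hg ⟨v, hvA⟩).2 (mem_subgroupOf.2 hv)
  refine ⟨hxH, hxs, hgrow M hM.inv hM.not3 inf_le_left fun e => ?_,
    hgrow N hNi hN3 inf_le_right fun e => hNM (e.ge.trans inf_le_left),
    hinf _ _ hM.inv hHi, hinf _ _ hNi hHi⟩
  exact hNM ((hM.max N hNi hN3 (e.ge.trans inf_le_right)).le)

/-- Two maximal invariant subgroups have meet a two-group. -/
theorem meet_not_dvd {q : ℕ} (hq : q.Prime) (hq2 : q ≠ 2) {M M' : Subgroup G} (hM : MaxInv x M)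
    (hM' : MaxInv x M') (hne : M' ≠ M) : ¬ q ∣ Nat.card (M ⊓ M' : Subgroup G) := by
  intro hdvd
  obtain ⟨M₁, ⟨⟨hM₁, hne₁⟩, hq₁⟩, hmax⟩ := (Set.toFinite
    {N : Subgroup G | (MaxInv x N ∧ N ≠ M) ∧ q ∣ Nat.card (M ⊓ N : Subgroup G)}).exists_maximalFor
      (fun N => Nat.card (M ⊓ N : Subgroup G)) _ ⟨M', ⟨hM', hne⟩, hdvd⟩
  have hD0 : M ⊓ M₁ ≠ ⊥ := fun e => by
    rw [e, card_bot, Nat.dvd_one] at hq₁
    exact hq.one_lt.ne' hq₁
  obtain ⟨hxH, hxs, hgM, hgN, hMi, hNi⟩ := hO.meet_data hx hx1 hG hM hM₁.inv hM₁.not3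
    (fun h => hne₁ (hM₁.max M hM.inv hM.not3 h).symm) hD0
  set D := M ⊓ M₁ with hD
  set H := normalizer (D : Set G) with hH
  obtain ⟨K, hKn, hK3, hcases⟩ := shape_of_self _ hxs rfl
  have hDn : (D.subgroupOf H).Normal := normal_in_normalizer
  rcases hcases with hI | hA | ⟨-, hs, h168⟩
  · obtain ⟨M₃, hM₃, hKM₃⟩ := exists_maxInv (x := x) (inv_map_subtype K hxH) (not3_map_subtype hK3)
    have hlM : M ⊓ H ≤ M₃ := (le_of_first hxs hI hK3 inf_le_right hMi
      (fun h => hM.not3 (h.trans (card_dvd_of_le inf_le_left)))).trans hKM₃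
    have hlN : M₁ ⊓ H ≤ M₃ := (le_of_first hxs hI hK3 inf_le_right hNi
      (fun h => hM₁.not3 (h.trans (card_dvd_of_le inf_le_left)))).trans hKM₃
    by_cases h3M : M₃ = M
    · exact hgN (le_inf (h3M ▸ hlN) inf_le_left)
    · have hDM₃ : D ≤ M ⊓ M₃ := le_inf inf_le_left
        ((le_inf (inf_le_left : D ≤ M) le_normalizer).trans hlM)
      have hc := hmax (j := M₃) ⟨⟨hM₃, h3M⟩, hq₁.trans (card_dvd_of_le hDM₃)⟩
        (Nat.le_of_dvd Nat.card_pos (card_dvd_of_le hDM₃))
      exact hgM ((le_inf inf_le_left hlM).trans (eq_of_le_of_card_ge hDM₃ hc).ge)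
  · haveI := hA.simple
    haveI : Fact q.Prime := ⟨hq⟩
    obtain ⟨u, hu⟩ := exists_prime_orderOf_dvd_card' (G := D) q hq₁
    rcases (hDn.map _ (QuotientGroup.mk'_surjective K)).eq_bot_or_eq_top with e | e
    · rw [Subgroup.map_eq_bot_iff, QuotientGroup.ker_mk'] at e
      have h2 := hA.sq ⟨(u : G), le_normalizer u.2⟩ (e (mem_subgroupOf.2 u.2))
      have h3 : u ^ 2 = 1 := Subtype.ext (by simpa using congrArg Subtype.val h2)
      have := orderOf_dvd_of_pow_eq_one h3
      rw [hu] at this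
      exact hq2 ((Nat.prime_dvd_prime_iff_eq hq Nat.prime_two).1 this)
    · have h1 : Nat.card ↥((D.subgroupOf H).map (QuotientGroup.mk' K)) ∣ Nat.card (D.subgroupOf H) :=
        card_map_dvd _ _
      rw [e, card_top, ← index_eq_card, hA.index,
        Nat.card_congr (subgroupOfEquivOfLe le_normalizer).toEquiv] at h1
      exact hM.not3 (((show 3 ∣ 60 by norm_num).trans h1).trans (card_dvd_of_le inf_le_left))
  · rcases hDn.eq_bot_or_eq_top with e | e
    · rw [subgroupOf_eq_bot] at e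
      exact hD0 (disjoint_iff.1 e ▸ (inf_of_le_left le_normalizer).symm)
    · rw [subgroupOf_eq_top] at e
      have hcard : Nat.card D = 168 := (congrArg (fun S : Subgroup G => Nat.card S) (le_antisymm le_normalizer e)).trans h168
      exact hM.not3 ((show 3 ∣ Nat.card D by rw [hcard]; norm_num).trans (card_dvd_of_le inf_le_left))

/-- Maximal invariant subgroups fixed by an inverting element meet trivially. -/
theorem meet_bot {z : G} (hz : z * x * z⁻¹ = x⁻¹) {M M' : Subgroup G} (hM : MaxInv x M)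
    (hM' : MaxInv x M') (hzM : Inv z M) (hzM' : Inv z M') (hne : M' ≠ M) : M ⊓ M' = ⊥ := by
  by_contra hmeet
  obtain ⟨N, ⟨⟨⟨hNi, hNz⟩, hN3, hNM⟩, hN0⟩, hmax⟩ := (Set.toFinite
    {N : Subgroup G | ((Inv x N ∧ Inv z N) ∧ ¬ 3 ∣ Nat.card N ∧ ¬ N ≤ M) ∧ M ⊓ N ≠ ⊥}).exists_maximalFor
      (fun N => Nat.card (M ⊓ N : Subgroup G)) _ ⟨M', ⟨⟨hM'.inv, hzM'⟩, hM'.not3,
        fun h => hne (hM'.max M hM.inv hM.not3 h).symm⟩, hmeet⟩
  obtain ⟨hxH, hxs, hgM, hgN, hMi, hNHi⟩ := hO.meet_data hx hx1 hG hM hNi hN3 hNM hN0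
  have hinf : ∀ A B : Subgroup G, Inv z A → Inv z B → Inv z (A ⊓ B) := fun A B hA hB =>
    mem_normalizer_iff.2 fun g => ⟨fun h => ⟨hA.conj_mem h.1, hB.conj_mem h.2⟩,
      fun h => ⟨(mem_normalizer_iff.1 hA g).2 h.1, (mem_normalizer_iff.1 hB g).2 h.2⟩⟩
  have hzH : z ∈ normalizer ((M ⊓ N : Subgroup G) : Set G) := hinf M N hzM hNz
  set D := M ⊓ N with hD
  set H := normalizer (D : Set G) with hH
  obtain ⟨K, hKn, hK3, hcases⟩ := shape_of_self _ hxs rfl
  have hDn : (D.subgroupOf H).Normal := normal_in_normalizer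
  -- everything invariant under both lies in the normal part
  suffices hin : ∀ A : Subgroup G, A ≤ H → Inv x A → Inv z A → ¬ 3 ∣ Nat.card A → A ≤ K.map H.subtype by
    have hlM := hin _ inf_le_right hMi (hinf _ _ hzM (le_normalizer hzH))
      (fun h => hM.not3 (h.trans (card_dvd_of_le inf_le_left)))
    have hlN := hin _ inf_le_right hNHi (hinf _ _ hNz (le_normalizer hzH))
      (fun h => hN3 (h.trans (card_dvd_of_le inf_le_left)))
    have hLM : ¬ K.map H.subtype ≤ M := fun h => hgN (le_inf (hlN.trans h) inf_le_left)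
    have hDL : D ≤ M ⊓ K.map H.subtype := le_inf inf_le_left
      ((le_inf (inf_le_left : D ≤ M) le_normalizer).trans hlM)
    have hc := hmax (j := K.map H.subtype) ⟨⟨⟨inv_map_subtype K hxH, inv_map_subtype K hzH⟩,
      not3_map_subtype hK3, hLM⟩, fun e => hN0 (le_bot_iff.1 (e ▸ hDL))⟩
      (Nat.le_of_dvd Nat.card_pos (card_dvd_of_le hDL))
    exact hgM ((le_inf inf_le_left hlM).trans (eq_of_le_of_card_ge hDL hc).ge)
  intro A hAH hAx hAz hA3
  rcases hcases with hI | hA | ⟨-, hs, h168⟩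
  · exact le_of_first hxs hI hK3 hAH hAx hA3
  · obtain ⟨T, U, hTU, hW, hall, hsw⟩ := hA.two_tops hxs
    set x' : H := ⟨x, hxH⟩ with hx'
    set z' : H := ⟨z, hzH⟩ with hz'
    have hzx : z' * x' * z'⁻¹ = x'⁻¹ := Subtype.ext hz
    obtain ⟨hT, hU⟩ := hsw z' hzx
    -- the involution moves both tops
    have key : ∀ W, (W = T ∨ W = U) → ∃ b ∈ W, z' * b * z'⁻¹ ∉ W := by
      intro W hW'
      by_contra hall'
      push Not at hall'
      have hWz : Inv z' W := by
        have hle : W.map (MulAut.conj z').toMonoidHom ≤ W := by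
          rintro _ ⟨b, hb, rfl⟩; exact hall' b hb
        have heq := eq_of_le_of_card_ge hle (card_map_of_injective (MulAut.conj z').injective).ge
        refine mem_normalizer_iff.2 fun b => ⟨fun hb => hall' b hb, fun hb => ?_⟩
        rw [← heq] at hb
        obtain ⟨b', hb', e⟩ := hb
        exact (mul_left_cancel (mul_right_cancel (show z' * b' * z'⁻¹ = z' * b * z'⁻¹ from e))) ▸ hb'
      rcases hW' with rfl | rfl
      exacts [hT hWz, hU hWz]
    have hAi : Inv x' (A.subgroupOf H) := inv_comap (f := H.subtype) hAx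
    have hAz' : Inv z' (A.subgroupOf H) := inv_comap (f := H.subtype) hAz
    have hA3' : ¬ 3 ∣ Nat.card (A.subgroupOf H) := by
      rwa [Nat.card_congr (subgroupOfEquivOfLe hAH).toEquiv]
    suffices hAK : A.subgroupOf H ≤ K from fun a ha => ⟨⟨a, hAH ha⟩, hAK (mem_subgroupOf.2 ha), rfl⟩
    rcases hall _ hAi hA3' with h | h | h
    · exact h
    all_goals
      -- both tops contain `A`, and they meet in `K`
      have hboth : A.subgroupOf H ≤ T ⊓ U := by
        have hzW : ∀ W, (W = T ∨ W = U) → ∃ W', (W' = T ∨ W' = U) ∧ W' ≠ W ∧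
            W.map (MulAut.conj z').toMonoidHom ≤ W' := by
          intro W hW'
          obtain ⟨hKW, hWi, hW4⟩ := hW W hW'
          set V := W.map (MulAut.conj z').toMonoidHom with hV
          have hV3 : ¬ 3 ∣ Nat.card V := by
            rw [hV, card_map_of_injective (MulAut.conj z').injective, hW4]
            exact fun h => (Nat.prime_three.dvd_mul.1 h).elim (by norm_num) hK3
          have hVi : Inv x' V := le_normalizer_map _ ⟨x'⁻¹, hWi.inv, by
            change z' * x'⁻¹ * z'⁻¹ = x'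
            rw [show z' * x'⁻¹ * z'⁻¹ = (z' * x' * z'⁻¹)⁻¹ by group, hzx, inv_inv]⟩
          obtain ⟨b, hb, hbW⟩ := key W hW'
          have hbV : z' * b * z'⁻¹ ∈ V := ⟨b, hb, rfl⟩
          rcases hall V hVi hV3 with h | h | h
          · exact absurd (hKW (h hbV)) hbW
          · exact ⟨T, Or.inl rfl, fun e => hbW (e ▸ h hbV), h⟩
          · exact ⟨U, Or.inr rfl, fun e => hbW (e ▸ h hbV), h⟩
        have hfix : ∀ W, A.subgroupOf H ≤ W → A.subgroupOf H ≤ W.map (MulAut.conj z').toMonoidHom :=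
          fun W hAW a ha => ⟨z'⁻¹ * a * z', hAW (by
            simpa using hAz'.inv.conj_mem ha), by simp [mul_assoc]⟩
        first
        | (obtain ⟨W', hW', hne', hle⟩ := hzW T (Or.inl rfl)
           rcases hW' with rfl | rfl
           · exact absurd rfl hne'
           · exact le_inf h ((hfix T h).trans hle))
        | (obtain ⟨W', hW', hne', hle⟩ := hzW U (Or.inr rfl)
           rcases hW' with rfl | rfl
           · exact le_inf ((hfix U h).trans hle) h
           · exact absurd rfl hne')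
      refine hboth.trans (le_of_eq ?_)
      obtain ⟨hKT, hTi, hT4⟩ := hW T (Or.inl rfl)
      obtain ⟨hKU, hUi, hU4⟩ := hW U (Or.inr rfl)
      have hT3 : ¬ 3 ∣ Nat.card T := by
        rw [hT4]; exact fun h => (Nat.prime_three.dvd_mul.1 h).elim (by norm_num) hK3
      have hIi : Inv x' (T ⊓ U) := mem_normalizer_iff.2 fun g =>
        ⟨fun h => ⟨hTi.conj_mem h.1, hUi.conj_mem h.2⟩,
          fun h => ⟨(mem_normalizer_iff.1 hTi g).2 h.1, (mem_normalizer_iff.1 hUi g).2 h.2⟩⟩
      have hI3 : ¬ 3 ∣ Nat.card (T ⊓ U : Subgroup H) := fun h => hT3 (h.trans (card_dvd_of_le inf_le_left))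
      obtain ⟨k, hk⟩ := card_dvd_of_le (le_inf hKT hKU)
      have h4 : k ∣ 4 := by
        have h := card_dvd_of_le (inf_le_left : T ⊓ U ≤ T)
        rw [hk, hT4, mul_comm 4] at h
        exact Nat.dvd_of_mul_dvd_mul_left Nat.card_pos h
      have hmI := hxs.card_mod_three hIi hI3
      have hmK := hxs.card_mod_three (SelfThree.ShapeA.inv_mk (K := K) x') hK3
      have hk1 : k ≠ 4 := fun e => hTU (by
        have h1 : T ⊓ U = T := eq_of_le_of_card_ge inf_le_left (by rw [hk, hT4, e, mul_comm])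
        exact eq_of_le_of_card_ge (inf_eq_left.1 h1) (by rw [hT4, hU4]))
      have hk2 : k ≠ 2 := fun e => by rw [hk, e] at hmI; omega
      have hkle := Nat.le_of_dvd (by norm_num) h4
      have : k = 1 := by interval_cases k <;> omega
      exact (eq_of_le_of_card_ge (le_inf hKT hKU) (by rw [hk, this, mul_one])).symm
  · exfalso
    rcases hDn.eq_bot_or_eq_top with e | e
    · rw [subgroupOf_eq_bot] at e
      exact hN0 (disjoint_iff.1 e ▸ (inf_of_le_left le_normalizer).symm)
    · rw [subgroupOf_eq_top] at e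
      have hcard : Nat.card D = 168 := (congrArg (fun S : Subgroup G => Nat.card S) (le_antisymm le_normalizer e)).trans h168
      exact hM.not3 ((show 3 ∣ Nat.card D by rw [hcard]; norm_num).trans (card_dvd_of_le inf_le_left))

end OneClass

end Cfsg.Agent.NineSection.One
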