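import Cfsg.Agent.Lib.NineSection.One.Data
import Cfsg.Agent.Lib.PrimeBlock.Integer

/-!
# The exceptional order `9·512·343`
-/

set_option autoImplicit false
set_option linter.style.haveILetI false
set_option linter.unusedSectionVars false

open scoped Classical

namespace Cfsg.Agent.NineSection.One

open Subgroup Cfsg.Agent.Characters
open Cfsg.Agent.SelfThree (Inv Self MaxInv)
open Cfsg.Agent.PrimeBlock (deg deg_cast deg_trivIrr involution_value)
open scoped ComplexConjugate

universe u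

variable {G : Type u} [Group G] [Finite G]

/-- The extension of `K` by an involution normalizing it. -/
def extend (K : Subgroup G) (z : G) (hz2 : z * z = 1) (hzK : ∀ g ∈ K, z * g * z ∈ K) : Subgroup G where
  carrier := {g | g ∈ K ∨ z * g ∈ K}
  one_mem' := Or.inl (one_mem K)
  mul_mem' := by
    rintro a c (ha | ha) (hc | hc)
    · exact Or.inl (mul_mem ha hc)
    · refine Or.inr ?_
      have e : z * (a * c) = z * a * z * (z * c) := by
        calc z * (a * c) = z * a * (z * z) * c := by rw [hz2]; group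
          _ = _ := by group
      rw [e]; exact mul_mem (hzK a ha) hc
    · exact Or.inr (by rw [← mul_assoc]; exact mul_mem ha hc)
    · refine Or.inl ?_
      have e : a * c = z * (z * a) * z * (z * c) := by
        calc a * c = (z * z) * a * (z * z) * c := by rw [hz2]; group
          _ = _ := by group
      rw [e]; exact mul_mem (hzK _ ha) hc
  inv_mem' := by
    rintro a (ha | ha)
    · exact Or.inl (inv_mem ha)
    · refine Or.inr ?_
      have hzi : z⁻¹ = z := inv_eq_of_mul_eq_one_left hz2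
      have e : z * a⁻¹ = z * (z * a)⁻¹ * z := by
        calc z * a⁻¹ = z * (a⁻¹ * z⁻¹) * z := by group
          _ = _ := by rw [mul_inv_rev]
      rw [e]; exact hzK _ (inv_mem ha)

theorem mem_extend {K : Subgroup G} {z : G} {hz2 : z * z = 1} {hzK : ∀ g ∈ K, z * g * z ∈ K} {g : G} :
    g ∈ extend K z hz2 hzK ↔ g ∈ K ∨ z * g ∈ K := Iff.rfl

/-- The two cosets. -/
noncomputable def extendEquiv {K : Subgroup G} {z : G} (hz2 : z * z = 1)
    (hzK : ∀ g ∈ K, z * g * z ∈ K) (hz : z ∉ K) : K ⊕ K ≃ extend K z hz2 hzK :=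
  Equiv.ofBijective (fun s => Sum.elim (fun a : K => ⟨(a : G), mem_extend.2 (Or.inl a.2)⟩)
      (fun a : K => ⟨z * (a : G), mem_extend.2 (Or.inr (by rw [← mul_assoc, hz2, one_mul]; exact a.2))⟩) s) (by
    constructor
    · have key : ∀ a c : K, (a : G) ≠ z * (c : G) := fun a c e => hz (by
        have : z = (a : G) * (c : G)⁻¹ := by rw [e, mul_inv_cancel_right]
        rw [this]; exact mul_mem a.2 (inv_mem c.2))
      rintro (a | a) (c | c) e <;> have e' := congrArg Subtype.val e <;>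
        simp only [Sum.elim_inl, Sum.elim_inr] at e'
      · rw [Subtype.ext e']
      · exact absurd e' (key a c)
      · exact absurd e'.symm (key c a)
      · rw [Subtype.ext (mul_left_cancel e')]
    · rintro ⟨g, hg | hg⟩
      · exact ⟨Sum.inl ⟨g, hg⟩, rfl⟩
      · refine ⟨Sum.inr ⟨z * g, hg⟩, Subtype.ext ?_⟩
        simp only [Sum.elim_inr]
        rw [← mul_assoc, hz2, one_mul])

theorem extendEquiv_inl {K : Subgroup G} {z : G} (hz2 : z * z = 1) (hzK : ∀ g ∈ K, z * g * z ∈ K)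
    (hz : z ∉ K) (a : K) : ((extendEquiv hz2 hzK hz (Sum.inl a) : extend K z hz2 hzK) : G) = a := rfl

theorem extendEquiv_inr {K : Subgroup G} {z : G} (hz2 : z * z = 1) (hzK : ∀ g ∈ K, z * g * z ∈ K)
    (hz : z ∉ K) (a : K) : ((extendEquiv hz2 hzK hz (Sum.inr a) : extend K z hz2 hzK) : G) = z * a := rfl

theorem card_extend {K : Subgroup G} {z : G} (hz2 : z * z = 1) (hzK : ∀ g ∈ K, z * g * z ∈ K) (hz : z ∉ K) :
    Nat.card (extend K z hz2 hzK) = 2 * Nat.card K := by
  rw [← Nat.card_congr (extendEquiv hz2 hzK hz), Nat.card_sum, two_mul]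

namespace OneClass

variable {P : Sylow 3 G} (hO : OneClass P) {x : G} (hx : x ∈ (P : Subgroup G)) (hx1 : x ≠ 1)
  (C : Coeffs x) [IsSimpleGroup G] (hG : ¬ IsMulCommutative G) {z : G} (hzo : orderOf z = 2)
  (hzP : ∀ g ∈ (P : Subgroup G), z * g * z⁻¹ = g⁻¹)
include hO hx hx1 hG hzo hzP

omit hG in
theorem z_facts : z * z = 1 ∧ z⁻¹ = z ∧ z ∉ (P : Subgroup G) ∧ (∀ p ∈ (P : Subgroup G), IsConj z (z * p)) := by
  have hz2 : z * z = 1 := by rw [← pow_two, ← hzo, pow_orderOf_eq_one]
  have hzi : z⁻¹ = z := inv_eq_of_mul_eq_one_left hz2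
  refine ⟨hz2, hzi, fun h => ?_, fun p hp => isConj_iff.2 ⟨p, ?_⟩⟩
  · have := hO.cube z h
    rw [pow_succ, pow_two, hz2, one_mul] at this
    rw [this, orderOf_one] at hzo
    norm_num at hzo
  · calc p * z * p⁻¹ = z * (z⁻¹ * p * z⁻¹⁻¹) * p⁻¹ := by group
      _ = z * (p⁻¹ * p⁻¹) := by rw [hzi, hzP p hp]; group
      _ = z * ((p ^ 3)⁻¹ * p) := by group
      _ = z * p := by rw [hO.cube p hp]; group

/-- The value at an involution against the fixed space of `P`. -/
theorem value_bound (χ : Cfsg.IrrCharacter G) {v : ℤ} (hv : (χ : G → ℂ) z = (v : ℂ)) :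
    9 * v ≤ (deg χ : ℤ) + 8 * C.a χ ∧ -(9 * v) ≤ (deg χ : ℤ) + 8 * C.a χ := by
  obtain ⟨hz2, hzi, hzn, hzc⟩ := hO.z_facts hx hx1 hzo hzP
  have hzK : ∀ g ∈ (P : Subgroup G), z * g * z ∈ (P : Subgroup G) := fun g hg => by
    nth_rw 2 [← hzi]
    rw [hzP g hg]
    exact inv_mem hg
  set H := extend (P : Subgroup G) z hz2 hzK with hH
  set sgn : H →* ℂˣ := MonoidHom.mk' (fun h => if (h : G) ∈ (P : Subgroup G) then 1 else -1) (by
    intro a c
    have hab : ((a * c : H) : G) = (a : G) * (c : G) := rfl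
    simp only [hab]
    by_cases ha : (a : G) ∈ (P : Subgroup G) <;> by_cases hc : (c : G) ∈ (P : Subgroup G)
    · rw [if_pos (mul_mem ha hc), if_pos ha, if_pos hc, one_mul]
    · rw [if_neg (fun h => hc (by simpa using mul_mem (inv_mem ha) h)), if_pos ha, if_neg hc, one_mul]
    · rw [if_neg (fun h => ha (by simpa using mul_mem h (inv_mem hc))), if_neg ha, if_pos hc, mul_one]
    · rw [if_pos ?_, if_neg ha, if_neg hc, neg_mul_neg, one_mul]
      have h1 := (mem_extend.1 a.2).resolve_left ha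
      have h2 := (mem_extend.1 c.2).resolve_left hc
      have e : (a : G) * c = z * (z * a) * z * (z * c) := by
        calc (a : G) * c = (z * z) * a * (z * z) * c := by rw [hz2]; group
          _ = _ := by group
      rw [e]; exact mul_mem (hzK _ h1) h2) with hsgn
  haveI : Fintype (P : Subgroup G) := Fintype.ofFinite _
  haveI : Fintype H := Fintype.ofFinite _
  have hcH : Nat.card H = 18 := by rw [hH, card_extend hz2 hzK hzn, hO.card]
  obtain ⟨m, hm⟩ := classInner_char_nat (isCharacter_restrict H (irr_isCharacter χ)) (isCharacter_one (G := H))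
  obtain ⟨k, hk⟩ := classInner_char_nat (isCharacter_restrict H (irr_isCharacter χ)) (isCharacter_linear sgn)
  have hvp : ∀ p : (P : Subgroup G), (χ : G → ℂ) (p : G) = if p = 1 then ((deg χ : ℤ) : ℂ) else (C.a χ : ℂ) := by
    intro p
    split_ifs with hp
    · rw [hp, OneMemClass.coe_one, ← deg_cast, Int.cast_natCast]
    · rw [hO.value_three hx hx1 χ (hO.order_eq p.2 (fun e => hp (Subtype.ext e))), C.value χ]
  have hvz : ∀ p : (P : Subgroup G), (χ : G → ℂ) (z * (p : G)) = (v : ℂ) := by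
    intro p
    obtain ⟨c, hc⟩ := isConj_iff.1 (hzc p p.2)
    rw [← hc, irr_isClassFunction χ z c, hv]
  have hsum : ∑ p : (P : Subgroup G), (χ : G → ℂ) (p : G) = ((deg χ : ℤ) : ℂ) + 8 * (C.a χ : ℂ) := by
    rw [Finset.sum_congr rfl fun p _ => hvp p, Finset.sum_ite, Finset.filter_eq',
      if_pos (Finset.mem_univ _), Finset.sum_singleton, Finset.sum_const, nsmul_eq_mul, Finset.filter_ne',
      Finset.card_erase_of_mem (Finset.mem_univ _), Finset.card_univ, ← Nat.card_eq_fintype_card, hO.card]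
    norm_num
  have hsum2 : ∑ p : (P : Subgroup G), (χ : G → ℂ) (z * (p : G)) = 9 * (v : ℂ) := by
    rw [Finset.sum_congr rfl fun p _ => hvz p, Finset.sum_const, nsmul_eq_mul, Finset.card_univ,
      ← Nat.card_eq_fintype_card, hO.card]
    norm_num
  have hout : ∀ p : (P : Subgroup G), z * (p : G) ∉ (P : Subgroup G) := fun p h => hzn (by
    simpa using mul_mem h (inv_mem p.2))
  rw [classInner_def, hcH, ← Equiv.sum_comp (extendEquiv hz2 hzK hzn), Fintype.sum_sum_type] at hm hk
  simp only [extendEquiv_inl, extendEquiv_inr, map_one, mul_one] at hm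
  simp only [extendEquiv_inl, extendEquiv_inr, hsgn, MonoidHom.mk'_apply,
    hout, if_false, SetLike.coe_mem, if_true, Units.val_one, Units.val_neg, map_one, map_neg, mul_one,
    mul_neg, Finset.sum_neg_distrib] at hk
  rw [hsum, hsum2] at hm hk
  rw [inv_mul_eq_iff_eq_mul₀ (by norm_num)] at hm hk
  have hm' : (((deg χ : ℤ) + 8 * C.a χ + 9 * v : ℤ) : ℂ) = ((18 * (m : ℤ) : ℤ) : ℂ) := by
    push_cast at hm ⊢
    linear_combination hm
  have hk' : (((deg χ : ℤ) + 8 * C.a χ - 9 * v : ℤ) : ℂ) = ((18 * (k : ℤ) : ℤ) : ℂ) := by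
    push_cast at hk ⊢
    linear_combination hk
  have hm'' : (deg χ : ℤ) + 8 * C.a χ + 9 * v = 18 * (m : ℤ) := by exact_mod_cast hm'
  have hk'' : (deg χ : ℤ) + 8 * C.a χ - 9 * v = 18 * (k : ℤ) := by exact_mod_cast hk'
  omega

theorem two_fix_dvd {M : Subgroup G} (hM : M ∈ zType x z) :
    2 * fixCard z M ∣ Nat.card (centralizer ({z} : Set G)) := by
  obtain ⟨hz2, hzi, -, -⟩ := hO.z_facts hx hx1 hzo hzP
  obtain ⟨hMx, hzM, -, -⟩ := mem_zType.1 hM
  set K := M ⊓ centralizer ({z} : Set G) with hK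
  have hfix : ∀ g ∈ centralizer ({z} : Set G), z * g * z = g := fun g hg => by
    have h := mem_centralizer_singleton_iff.1 hg
    rw [mul_assoc, h, ← mul_assoc, hz2, one_mul]
  have hzK : ∀ g ∈ K, z * g * z ∈ K := fun g hg => by rw [hfix g hg.2]; exact hg
  have hzn : z ∉ K := by
    rintro ⟨h, -⟩
    have h1 : (z * x * z⁻¹) * x⁻¹ ∈ M := by
      have : z * (x * z⁻¹ * x⁻¹) ∈ M := mul_mem h (hMx.inv.conj_mem (inv_mem h))
      simpa [mul_assoc] using this
    rw [hzP x hx] at h1
    have h3 : orderOf (x⁻¹ * x⁻¹) = 3 := by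
      have hx3 := hO.cube x hx
      rw [show x⁻¹ * x⁻¹ = (x ^ 3)⁻¹ * x by group, hx3, inv_one, one_mul]
      exact hO.order_eq hx hx1
    exact hMx.not3 (h3 ▸ M.orderOf_dvd_natCard h1)
  have hle : extend K z hz2 hzK ≤ centralizer ({z} : Set G) := by
    intro g hg
    rcases mem_extend.1 hg with h | h
    · exact h.2
    · have : z * (z * g) ∈ centralizer ({z} : Set G) :=
        mul_mem (mem_centralizer_singleton_iff.2 rfl) h.2
      rwa [← mul_assoc, hz2, one_mul] at this
  have := card_dvd_of_le hle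
  rwa [card_extend hz2 hzK hzn] at this

/-- The factorizations in the order `9·512·343`. -/
theorem seven_count (hcard : Nat.card G = 9 * (2 ^ 9 * 7 ^ 3)) :
    (pairs x).ncard ≤ 22804 ∧
      (18665 ≤ (pairs x).ncard → Nat.card (centralizer ({z} : Set G)) = 896) := by
  haveI : Fact (Nat.Prime 7) := ⟨by norm_num⟩
  haveI : Fact (Nat.Prime 2) := ⟨Nat.prime_two⟩
  obtain ⟨hz2, hzi, -, -⟩ := hO.z_facts hx hx1 hzo hzP
  have hz := hzP x hx
  have h := hO.pairs_le hx hx1 hG hz (q := 7) (A := 9) (b := 3) (by norm_num) (by norm_num) (by norm_num)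
    (by norm_num) hcard hz2 hzP
  have hU2 : xUnion x (2 ^ 9) = ∅ := by
    refine Set.eq_empty_iff_forall_notMem.2 ?_
    rintro g ⟨-, M, ⟨hM, hMc, -⟩, -⟩
    have := hO.card_mod_three hx hx1 hM.inv hM.not3
    rw [hMc] at this
    norm_num at this
  have hfac7 : (Nat.card G).factorization 7 = 3 := by
    have h1 := SmallSimple.Basic.card_sylow_eq_pow (p := 7) (a := 3) (m := 9 * 2 ^ 9)
      (hcard.trans (by norm_num)) (by norm_num) (default : Sylow 7 G)
    rw [SmallSimple.Basic.card_sylow_eq] at h1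
    exact Nat.pow_right_injective (by norm_num) h1
  have hU7 : xUnion x (7 ^ 3) = ∅ := by
    refine Set.eq_empty_iff_forall_notMem.2 ?_
    rintro g ⟨-, M, ⟨hM, hMc, hN⟩, -⟩
    have hS : Nat.card M = 7 ^ (Nat.card G).factorization 7 := by rw [hfac7, hMc]
    set S : Sylow 7 G := Sylow.ofCard M hS
    have h1 := S.card_eq_index_normalizer
    have h2 := Subgroup.card_mul_index (normalizer (M : Set G))
    rw [hN, hMc, hcard] at h2
    have h3 : Nat.card (Sylow 7 G) % 7 = 1 := card_sylow_modEq_one 7 G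
    rw [show Nat.card (Sylow 7 G) = (normalizer (M : Set G)).index from h1] at h3
    omega
  rw [hU2, hU7, Set.ncard_empty, add_zero, add_zero] at h
  set c := Nat.card (centralizer ({z} : Set G)) with hc
  have hfix := hO.sum_fix_le hx hx1 hG hz hz2
  have hMr : ∀ M ∈ zType x z, Nat.card M = fixCard z M ^ 2 ∧ fixCard z M ≤ 16 ∧ 2 * fixCard z M ∣ c ∧
      fixCard z M ∣ 512 := by
    intro M hM
    obtain ⟨hMx, -, hM0, h6⟩ := mem_zType.1 hM
    have hr := hO.card_eq_fix hx hx1 hG hz hz2 hM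
    have hd := card_subgroup_dvd_card (normalizer (M : Set G))
    rw [h6, hr, hcard] at hd
    have h7 : ¬ 7 ∣ fixCard z M := by
      intro h7
      have h7M : 7 ∣ Nat.card M := by rw [hr]; exact dvd_pow h7 two_ne_zero
      obtain ⟨S, hS, -⟩ := hO.exists_sylow hx hx1 hG hMx h7M (fun e => absurd e (by norm_num))
      have h343 : 7 ^ 3 ∣ fixCard z M ^ 2 := by
        rw [← hr, ← hfac7, ← SmallSimple.Basic.card_sylow_eq S]
        exact card_dvd_of_le hS
      obtain ⟨k, hk⟩ := h7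
      have h77 : 7 ∣ k := by
        have h4 : 7 ∣ k ^ 2 := by
          rw [hk, mul_pow, show (7 : ℕ) ^ 3 = 7 ^ 2 * 7 by norm_num] at h343
          exact Nat.dvd_of_mul_dvd_mul_left (by norm_num) h343
        exact (show Nat.Prime 7 by norm_num).dvd_of_dvd_pow h4
      obtain ⟨l, hl⟩ := h77
      rw [hk, hl] at hd
      have h5 : 7 ^ 4 ∣ 9 * (2 ^ 9 * 7 ^ 3) := Nat.dvd_trans ⟨6 * l ^ 2, by ring⟩ hd
      norm_num at h5
    have hcop : Nat.Coprime (fixCard z M ^ 2) (7 ^ 3) :=
      Nat.Coprime.pow 2 3 (Nat.Coprime.symm ((show Nat.Prime 7 by norm_num).coprime_iff_not_dvd.2 h7))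
    have h512 : 2 * fixCard z M ^ 2 ∣ 3 * 2 ^ 9 := by
      have h1 : 2 * fixCard z M ^ 2 ∣ 3 * 2 ^ 9 * 7 ^ 3 :=
        Nat.dvd_of_mul_dvd_mul_left (show 0 < 3 by norm_num) (by
          rw [← mul_assoc]
          exact hd.trans (dvd_of_eq (by norm_num)))
      refine Nat.Coprime.dvd_of_dvd_mul_right ?_ h1
      exact Nat.Coprime.mul_left (by norm_num) hcop
    have hle := Nat.le_of_dvd (by norm_num) h512
    have h32 : fixCard z M < 32 := by nlinarith
    have hdvd512 : fixCard z M ∣ 512 := by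
      have h3 : ¬ 3 ∣ fixCard z M := fun h3 => hMx.not3 (hr ▸ dvd_pow h3 two_ne_zero)
      have : fixCard z M ∣ 3 * 2 ^ 9 := (dvd_pow_self _ two_ne_zero).trans (dvd_trans (dvd_mul_left _ 2) h512)
      exact Nat.Coprime.dvd_of_dvd_mul_left (Nat.prime_three.coprime_iff_not_dvd.2 h3).symm this
    refine ⟨hr, ?_, hO.two_fix_dvd hx hx1 hG hzo hzP hM, hdvd512⟩
    obtain ⟨i, hi, he⟩ := (Nat.dvd_prime_pow (p := 2) (m := 9) Nat.prime_two).1 hdvd512
    rw [he] at h32 ⊢
    have hi4 : i ≤ 4 := by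
      by_contra h5
      have := Nat.pow_le_pow_right (show 1 ≤ 2 by norm_num) (show 5 ≤ i by omega)
      omega
    calc 2 ^ i ≤ 2 ^ 4 := Nat.pow_le_pow_right (by norm_num) hi4
      _ = 16 := by norm_num
  have hbound : ∀ R, (∀ M ∈ zType x z, fixCard z M ≤ R) →
      ∑ M ∈ zType x z, (Nat.card M - 1) ≤ (R + 1) * ∑ M ∈ zType x z, (fixCard z M - 1) := by
    intro R hR
    rw [Finset.mul_sum]
    refine Finset.sum_le_sum fun M hM => ?_
    rw [(hMr M hM).1]
    have hpos : 0 < fixCard z M := Nat.card_pos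
    obtain ⟨r, hr⟩ : ∃ r, fixCard z M = r + 1 := ⟨_, (Nat.succ_pred_eq_of_pos hpos).symm⟩
    have := hR M hM
    rw [hr] at this ⊢
    rw [show (r + 1) ^ 2 = (r + 2) * r + 1 by ring, Nat.add_sub_cancel, Nat.add_sub_cancel]
    exact Nat.mul_le_mul_right _ (by omega)
  have h16 := hbound 16 fun M hM => (hMr M hM).2.1
  have hcd : c ∣ 2 ^ 9 * 7 ^ 3 := by
    refine Nat.Coprime.dvd_of_dvd_mul_left ?_ (hcard ▸ card_subgroup_dvd_card _)
    rw [show (9 : ℕ) = 3 ^ 2 by norm_num]
    exact ((Nat.prime_three.coprime_iff_not_dvd.2 (hO.centralizer_not3 hx hx1 hzo)).symm).pow_right 2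
  have hc2 := hO.centralizer_sq hx hx1 hz2 hzP
  rw [hcard, ← hc] at hc2
  have hc1258 : c < 1258 := by nlinarith
  have hlist : c ≤ 732 ∨ c = 784 ∨ c = 896 := by
    obtain ⟨d1, d2, h1, h2, e⟩ := Nat.dvd_mul.1 hcd
    obtain ⟨i, hi, rfl⟩ := (Nat.dvd_prime_pow Nat.prime_two).1 h1
    obtain ⟨j, hj, rfl⟩ := (Nat.dvd_prime_pow (show Nat.Prime 7 by norm_num)).1 h2
    rw [← e] at hc1258 ⊢
    interval_cases i <;> interval_cases j <;> omega
  rcases hlist with h732 | h784 | h896
  · refine ⟨by omega, fun hn => ?_⟩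
    omega
  · have h8 := hbound 8 fun M hM => by
      obtain ⟨-, hle, hd, h5⟩ := hMr M hM
      rw [h784] at hd
      obtain ⟨i, -, he⟩ := (Nat.dvd_prime_pow (p := 2) (m := 9) Nat.prime_two).1 h5
      rw [he] at hd hle ⊢
      have hi3 : i ≤ 3 := by
        by_contra h4
        have h25 : 2 ^ 5 ∣ 784 := Nat.dvd_trans ⟨2 ^ (i - 4), by
          rw [← pow_succ', ← pow_add]; congr 1; omega⟩ hd
        norm_num at h25
      calc 2 ^ i ≤ 2 ^ 3 := Nat.pow_le_pow_right (by norm_num) hi3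
        _ = 8 := by norm_num
    refine ⟨by omega, fun hn => ?_⟩
    omega
  · exact ⟨by omega, fun _ => h896⟩

/-- The data at the involution contradict the search. -/
theorem seven_values {q A b : ℕ} (hp : Params G q A b) (hc : Nat.card (centralizer ({z} : Set G)) = 896)
    {l : List (Cfsg.IrrCharacter G)} (hl : l.Perm (supp C).toList)
    (h : noValues (2 ^ A * q ^ b) (l.map (toCand q C)) 895 ((896 * 896 : ℤ) - (2 ^ A * q ^ b : ℕ)) = true) :
    False := by
  haveI := Fintype.ofFinite (Cfsg.IrrCharacter G)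
  set X := 2 ^ A * q ^ b with hX
  obtain ⟨hz2, hzi, hzn, hzc⟩ := hO.z_facts hx hx1 hzo hzP
  choose v hv h4 hlt using fun (χ : Cfsg.IrrCharacter G) (h : χ ≠ trivIrr G) => involution_value hG h hzo
  set w : Cfsg.IrrCharacter G → ℤ := fun χ : Cfsg.IrrCharacter G => if h : χ ≠ trivIrr G then v χ h else 1 with hw
  have hwv : ∀ χ : Cfsg.IrrCharacter G, (χ : G → ℂ) z = (w χ : ℂ) := by
    intro χ
    by_cases h : χ ≠ trivIrr G
    · rw [hv χ h, hw]; simp [h]
    · push Not at h
      subst h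
      rw [trivIrr_coe, hw]
      simp
  have hsq : ∑ χ, w χ * w χ = (896 : ℤ) := by
    have h2 := second_orthogonality (G := G) z z
    rw [if_pos (IsConj.refl z), hc] at h2
    have h3 : ((∑ χ, w χ * w χ : ℤ) : ℂ) = ((896 : ℤ) : ℂ) := by
      push_cast
      norm_num at h2
      rw [← h2]
      exact Finset.sum_congr rfl fun χ _ => by rw [hwv, map_intCast]
    exact_mod_cast h3
  have hcc := SelfThree.class_constant z z x
  have hnine : Nat.card {p : G × G // IsConj z p.1 ∧ IsConj z p.2 ∧ p.1 * p.2 = x} = 9 := by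
    rw [← hO.card]
    symm
    have hxz : ∀ p ∈ (P : Subgroup G), z * p * (z * (p * x)) = x := fun p hp' => by
      calc z * p * (z * (p * x)) = z * p * z⁻¹ * (p * x) := by rw [hzi]; group
        _ = x := by rw [hzP p hp']; group
    refine Nat.card_congr
      { toFun := fun p => ⟨(z * (p : G), z * ((p : G) * x)), hzc p p.2, hzc _ (mul_mem p.2 hx), hxz p p.2⟩
        invFun := fun r => ⟨z * r.1.1, ?_⟩
        left_inv := fun p => Subtype.ext (by
          change z * (z * (p : G)) = p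
          rw [← mul_assoc, hz2, one_mul])
        right_inv := fun r => ?_ }
    · obtain ⟨⟨a, c⟩, ha, hc', e⟩ := r
      dsimp only at ha hc' e ⊢
      have hsq' : ∀ y, IsConj z y → y * y = 1 := fun y hy => by
        obtain ⟨g, rfl⟩ := isConj_iff.1 hy
        calc g * z * g⁻¹ * (g * z * g⁻¹) = g * (z * z) * g⁻¹ := by group
          _ = 1 := by rw [hz2]; group
      have ha2 := hsq' a ha
      have hc2' := hsq' c hc'
      refine hO.mem_of_comm hx hx1 ?_
      have hac : c = a * x := by rw [← e, ← mul_assoc, ha2, one_mul]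
      rw [hac] at hc2'
      have hax : a * x * a = x⁻¹ := by
        rw [← mul_assoc] at hc2'
        exact eq_inv_of_mul_eq_one_left hc2'
      have hai : a⁻¹ = a := inv_eq_of_mul_eq_one_left ha2
      calc x * (z * a) = z * (z * x * z⁻¹) * a := by
            rw [hzi]
            calc x * (z * a) = (z * z) * x * z * a := by rw [hz2]; group
              _ = _ := by group
        _ = z * x⁻¹ * a := by rw [hzP x hx]
        _ = z * (a * x * a) * a := by rw [hax]
        _ = z * (a * x) * (a * a) := by group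
        _ = _ := by rw [ha2]; group
    · obtain ⟨⟨a, c⟩, ha, hc', e⟩ := r
      dsimp only at ha hc' e
      have ha2 : a * a = 1 := by
        obtain ⟨g, rfl⟩ := isConj_iff.1 ha
        calc g * z * g⁻¹ * (g * z * g⁻¹) = g * (z * z) * g⁻¹ := by group
          _ = 1 := by rw [hz2]; group
      refine Subtype.ext (Prod.ext ?_ ?_)
      · change z * (z * a) = a
        rw [← mul_assoc, hz2, one_mul]
      · change z * (z * a * x) = c
        rw [← e]
        calc z * (z * a * (a * c)) = (z * z) * (a * a) * c := by group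
          _ = c := by rw [hz2, ha2, one_mul, one_mul]
  rw [hnine, hc, hp.card, ← hX,
    hO.sum_supp hx hx1 C hp hG _ (fun χ e => by rw [C.value χ, e]; simp), C.value, hO.a_triv hx hx1 C,
    hwv (trivIrr G)] at hcc
  have hw1 : w (trivIrr G) = 1 := by simp [hw]
  rw [hw1] at hcc
  have hterm : ∀ χ ∈ supp C, (X : ℂ) * ((χ : G → ℂ) z * (χ : G → ℂ) z * conj ((χ : G → ℂ) x) / (χ : G → ℂ) 1)
      = ((C.a χ * ((X / deg χ : ℕ) : ℤ) * w χ * w χ : ℤ) : ℂ) := by
    intro χ hχ
    obtain ⟨k, hk⟩ := hO.dvd_x hx hx1 C hp hG hχ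
    rw [← hX] at hk
    have h0 : deg χ ≠ 0 := fun e => (hp.x_pos).ne' (by rw [← hX, hk, e, zero_mul])
    have hdiv : X / deg χ = k := by rw [hk, Nat.mul_div_cancel_left _ (Nat.pos_of_ne_zero h0)]
    rw [hdiv, C.value, map_intCast, ← deg_cast, hk, hwv]
    push_cast
    field_simp
  have hsum : ∑ χ ∈ supp C, C.a χ * ((X / deg χ : ℕ) : ℤ) * w χ * w χ = (896 * 896 : ℤ) - (X : ℤ) := by
    have h' : ((∑ χ ∈ supp C, C.a χ * ((X / deg χ : ℕ) : ℤ) * w χ * w χ : ℤ) : ℂ) =
        (((896 * 896 : ℤ) - (X : ℤ) : ℤ) : ℂ) := by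
      rw [Int.cast_sum, ← Finset.sum_congr rfl hterm, ← Finset.mul_sum]
      have h1 : (trivIrr G : G → ℂ) 1 = 1 := rfl
      rw [h1, map_intCast] at hcc
      push_cast at hcc ⊢
      linear_combination -hcc / 9
    exact_mod_cast h'
  have hn : trivIrr G ∉ supp C := fun h => (mem_supp.1 h).1 rfl
  have hbud : ∑ χ ∈ supp C, w χ * w χ ≤ 895 := by
    have h1 := Finset.sum_le_sum_of_subset_of_nonneg (f := fun χ => w χ * w χ)
      (Finset.subset_univ (insert (trivIrr G) (supp C))) (fun χ _ _ => mul_self_nonneg _)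
    rw [Finset.sum_insert hn, hsq, hw1] at h1
    omega
  have hv29 : ∀ χ ∈ supp C, -29 ≤ w χ ∧ w χ ≤ 29 := fun χ hχ => by
    have h1 : w χ * w χ ≤ 895 :=
      le_trans (Finset.single_le_sum (f := fun χ => w χ * w χ) (fun χ _ => mul_self_nonneg _) hχ) hbud
    constructor <;> nlinarith
  refine noValues_sound X (l.map fun χ => (toCand q C χ, w χ)) 895 ((896 * 896 : ℤ) - (X : ℤ)) ?_ ?_ ?_ ?_
  · rwa [List.map_map]
  · intro p hp'
    obtain ⟨χ, hχ, rfl⟩ := List.mem_map.1 hp'
    have hχs : χ ∈ supp C := Finset.mem_toList.1 (hl.mem_iff.1 hχ)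
    obtain ⟨hne, -⟩ := mem_supp.1 hχs
    obtain ⟨hl1, hl2⟩ := hv29 χ hχs
    obtain ⟨hb1, hb2⟩ := hO.value_bound hx hx1 C hG hzo hzP χ (hwv χ)
    have h44 : (4 : ℤ) ∣ (deg χ : ℤ) - w χ := by
      have := h4 χ hne
      simpa [hw, hne] using this
    simp [vals, toCand]
    exact ⟨⟨(w χ + 29).toNat, by omega, by omega⟩, h44, hb1, by omega⟩
  · rw [List.map_map]
    have h1 : ((l.map ((fun p : Cand × ℤ => p.2.natAbs * p.2.natAbs) ∘ fun χ => (toCand q C χ, w χ))).sum : ℕ)
        = ∑ χ ∈ supp C, (w χ).natAbs * (w χ).natAbs := by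
      rw [(hl.map _).sum_eq, Finset.sum_map_toList]
      rfl
    rw [h1]
    have h2 : ((∑ χ ∈ supp C, (w χ).natAbs * (w χ).natAbs : ℕ) : ℤ) ≤ 895 := by
      push_cast
      simp only [Int.natAbs_mul_self', abs_mul_abs_self]
      exact hbud
    exact_mod_cast h2
  · rw [wsum, List.map_map, (hl.map _).sum_eq, Finset.sum_map_toList]
    exact hsum

end OneClass

end Cfsg.Agent.NineSection.One
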