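import Cfsg.Agent.Lib.NineSection.One.Special
import Cfsg.Agent.Lib.NineSection.One.SpecialSeven
import Cfsg.Agent.Lib.NineSection.One.CheckFive
import Cfsg.Agent.Lib.NineSection.One.CheckSeven
import Cfsg.Agent.Lib.NineSection.One.CheckMid
import Cfsg.Agent.Lib.NineSection.One.CheckBig

/-!
# No simple group has one class of self-centralizing elements of order three in a group of order nine
-/

set_option autoImplicit false
set_option linter.style.haveILetI false
set_option linter.unusedSectionVars false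

open scoped Classical

namespace Cfsg.Agent.NineSection.One

open Subgroup Cfsg.Agent.Characters
open Cfsg.Agent.SelfThree (Inv Self MaxInv)
open Cfsg.Agent.PrimeBlock (deg deg_cast deg_ne_one deg_trivIrr)

universe u

variable {G : Type u} [Group G] [Finite G]

/-- The parameters outside the finite search are bounded. -/
theorem range_of_le {q A b : ℕ} (h5 : 5 ≤ q) (hb : ¬ (b = 1 ∧ 11 ≤ q)) (hb0 : 0 < b)
    (h1 : 4 * 2 ^ A ≤ 81 * q ^ b) (h2 : 4 * q ^ b ≤ 81 * 2 ^ A) (h3 : 2 ^ A * q ^ b ≤ 4000000000) :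
    A < 19 ∧ b < 9 ∧ q < 534 := by
  have hQ : q ^ b ≤ 284700 := by nlinarith
  have hT : 2 ^ A ≤ 284700 := by nlinarith
  refine ⟨?_, ?_, ?_⟩
  · by_contra h
    push Not at h
    have := Nat.pow_le_pow_right (show 1 ≤ 2 by norm_num) h
    norm_num at this
    omega
  · by_contra h
    push Not at h
    have h5' : 5 ^ b ≤ q ^ b := Nat.pow_le_pow_left h5 b
    have := Nat.pow_le_pow_right (show 1 ≤ 5 by norm_num) h
    norm_num at this
    omega
  · by_contra h
    push Not at h
    rcases Nat.lt_or_ge b 2 with hlt | hge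
    · exact hb ⟨by omega, by omega⟩
    · have h2' := Nat.pow_le_pow_right (show 1 ≤ q by omega) hge
      have h3' : 534 ^ 2 ≤ q ^ 2 := Nat.pow_le_pow_left h 2
      norm_num at h3'
      omega

theorem check_all {q A b : ℕ} (hq : q.Prime) (h5 : 5 ≤ q) (hb : ¬ (b = 1 ∧ 11 ≤ q)) (hb0 : 0 < b)
    (hr : inRange q A b = true) : check q A b = true := by
  simp only [inRange, decide_eq_true_eq] at hr
  obtain ⟨hA, hb9, hq534⟩ := range_of_le h5 hb hb0 hr.1 hr.2.1 hr.2.2
  have hall : checkPrime q = true := by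
    rcases Nat.lt_or_ge q 11 with h11 | h11
    · have : q = 5 ∨ q = 7 := by
        have : q ≠ 6 ∧ q ≠ 8 ∧ q ≠ 9 ∧ q ≠ 10 :=
          ⟨fun e => by subst e; norm_num at hq, fun e => by subst e; norm_num at hq,
            fun e => by subst e; norm_num at hq, fun e => by subst e; norm_num at hq⟩
        omega
      rcases this with rfl | rfl
      exacts [check_five, check_seven]
    rcases Nat.lt_or_ge q 60 with h60 | h60
    · exact List.all_eq_true.1 check_mid q (mem_primesIn hq h11 h60)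
    · exact List.all_eq_true.1 check_big q (mem_primesIn hq h60 hq534)
  simp only [checkPrime, List.all_eq_true, List.mem_range] at hall
  have h := hall b hb9
  rw [show (b == 0) = false by simpa using hb0.ne', show (b == 1 && decide (11 ≤ q)) = false by
    simpa using fun h => Nat.lt_of_not_le (fun h' => hb ⟨h, h'⟩)] at h
  simp only [Bool.false_or, List.all_eq_true, List.mem_range] at h
  exact h A hA

namespace OneClass

variable {P : Sylow 3 G} (hO : OneClass P) {x : G} (hx : x ∈ (P : Subgroup G)) (hx1 : x ≠ 1)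
  (C : Coeffs x) {q A b : ℕ} (hp : Params G q A b) [IsSimpleGroup G] (hG : ¬ IsMulCommutative G)
  {z : G} (hzo : orderOf z = 2) (hzP : ∀ g ∈ (P : Subgroup G), z * g * z⁻¹ = g⁻¹)
include hO hx hx1 hp hG hzo hzP

/-- A leaf cannot come from a group. -/
theorem leaf_false {l : List (Cfsg.IrrCharacter G)} (hl : l.Perm (supp C).toList)
    (h : leafOk q A b (l.map (toCand q C)) = true) : False := by
  haveI := Fact.mk hp.prime
  set X := 2 ^ A * q ^ b with hX
  set n := (pairs x).ncard with hn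
  set N := nineCount (2 ^ A * q ^ b) (l.map (toCand q C)) with hN
  have hsum : ∀ {M : Type} [AddCommMonoid M] (f : Cand → M),
      ((l.map (toCand q C)).map f).sum = ∑ χ ∈ supp C, f (toCand q C χ) := by
    intro M _ f
    rw [List.map_map, (hl.map _).sum_eq, Finset.sum_map_toList]
    rfl
  have hN9 : N = 9 * (n : ℤ) := by
    rw [hN, nineCount, hsum, hO.count_eq hx hx1 C hp hG]
    rfl
  have hmod := hO.count_mod hx hx1 hp
  simp only [leafOk] at h
  rw [← hN, if_pos ⟨by omega, by omega⟩] at h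
  simp only [Bool.or_eq_true] at h
  have hz2 : z * z = 1 := by rw [← pow_two, ← hzo, pow_orderOf_eq_one]
  rcases h with (htoo | hspec) | hblock
  · simp only [tooMany, decide_eq_true_eq] at htoo
    have hb' := hO.pairs_bound hx hx1 hG (hzP x hx) hz2 hp.ne_two hp.ne_three hp.posA hp.posb hp.card hzP
    rw [hN9] at htoo
    have : ((n : ℤ)) ≤ ((9 + 11 * 2 ^ A + 6 * q ^ b +
      3 * (Nat.sqrt (Nat.sqrt (3 * (2 ^ A * q ^ b) / 2)) + 1) * (Nat.sqrt (9 * (2 ^ A * q ^ b)) / 2) : ℕ) : ℤ) := by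
      exact_mod_cast hb'
    linarith
  · simp only [special, Bool.or_eq_true, Bool.and_eq_true, decide_eq_true_eq, List.all_eq_true] at hspec
    rcases hspec with ⟨⟨rfl, rfl, rfl⟩, hall⟩ | ⟨⟨rfl, rfl, rfl⟩, h7⟩
    · obtain ⟨H, hH3, hidx⟩ := hO.exists_small_index hx hx1 hG hp.card
      obtain ⟨χ, hneg, hlt⟩ := hO.exists_negative hx hx1 C hH3
      have hχ : χ ∈ supp C := by
        refine mem_supp.2 ⟨fun e => ?_, hneg.ne⟩
        rw [e, hO.a_triv hx hx1 C] at hneg
        norm_num at hneg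
      have h80 := hall (toCand 5 C χ) (List.mem_map_of_mem (hl.mem_iff.2 (Finset.mem_toList.2 hχ)))
      simp only [toCand] at h80
      omega
    · obtain ⟨hle, hc⟩ := hO.seven_count hx hx1 hG hzo hzP hp.card
      rcases h7 with hbig | ⟨hlow, hno⟩
      · rw [hN9] at hbig
        omega
      · have hc' := hc (by rw [hN9] at hlow; omega)
        obtain ⟨l', hl', e⟩ := exists_perm_map (toCand 7 C) (foldr_insW_perm _ (l.map (toCand 7 C)))
        rw [← e] at hno
        exact hO.seven_values hx hx1 C hG hzo hzP hp hc' (hl'.trans hl) hno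
  · have hsub : ∀ (p : Cand → Bool) (D : Finset (Cfsg.IrrCharacter G)), D ⊆ supp C →
        (∀ χ ∈ D, p (toCand q C χ) = true) →
        (D.toList.map (toCand q C)).Subperm ((l.map (toCand q C)).filter p) := by
      intro p D hDs hpD
      rw [List.filter_map]
      suffices hs : D.toList.Subperm (l.filter (p ∘ toCand q C)) by
        obtain ⟨t, ht, hts⟩ := hs
        exact ⟨t.map _, ht.map _, hts.map _⟩
      refine D.nodup_toList.subperm fun χ hχ => ?_
      have hχ' := Finset.mem_toList.1 hχ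
      exact List.mem_filter.2 ⟨hl.mem_iff.2 (Finset.mem_toList.2 (hDs hχ')), hpD χ hχ'⟩
    have hlin : ∀ D : Finset (Cfsg.IrrCharacter G),
        lin (D.toList.map (toCand q C)) = ∑ χ ∈ D, C.a χ * (deg χ : ℤ) := by
      intro D
      rw [lin, List.map_map, Finset.sum_map_toList]
      rfl
    have htwo : blockTwo A (l.map (toCand q C)) = true := by
      obtain ⟨D, hDs, hD, hdvd⟩ := hO.exists_block hx hx1 C hp hG Nat.prime_two (by norm_num) hp.factorization_two
      refine contains_of_sum _ (hsub _ D hDs fun χ hχ => ?_) (by rw [hlin]; exact hdvd)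
      obtain ⟨i, j, -, -, e, -, ej⟩ := hO.deg_form hx hx1 C hp hG (hDs hχ)
      simp only [toCand, ej, decide_eq_true_eq]
      intro h0
      exact hD χ hχ i (by rw [e, h0, pow_zero, mul_one])
    have hq' : blockQ q b (l.map (toCand q C)) = true := by
      obtain ⟨D, hDs, hD, hdvd⟩ := hO.exists_block hx hx1 C hp hG hp.prime hp.ne_three hp.factorization_q
      refine contains_of_sum _ (hsub _ D hDs fun χ hχ => ?_) (by rw [hlin]; exact hdvd)
      obtain ⟨i, j, -, -, e, ei, -⟩ := hO.deg_form hx hx1 C hp hG (hDs hχ)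
      simp only [toCand, ei, decide_eq_true_eq]
      intro h0
      exact hD χ hχ j (by rw [e, h0, pow_zero, one_mul])
    simp [htwo, hq'] at hblock

/-- Both parts contain a constituent of large degree when the order is large. -/
theorem large_false (h1 : 4 * 2 ^ A ≤ 81 * q ^ b) (h2 : 4 * q ^ b ≤ 81 * 2 ^ A)
    (hbig : 4000000000 < 2 ^ A * q ^ b) (C : Coeffs x) : False := by
  haveI := Fact.mk hp.prime
  obtain ⟨hex, -⟩ := hO.exists_pow_char hx hx1 hp hG
  obtain ⟨D, hDs, -, -, hle⟩ := hO.part_le hx hx1 C hp hG Nat.prime_two (by norm_num) hp.factorization_two hex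
  have hT : (1000 : ℤ) ≤ ((2 ^ A : ℕ) : ℤ) := by
    have : 1000 ≤ 2 ^ A := by nlinarith
    exact_mod_cast this
  have hsum := hO.supp_deg hx hx1 C hp hG
  rw [← Finset.sum_sdiff hDs] at hsum
  have hsq := hO.supp_sq hx hx1 C hp hG
  have ha2 : ∀ χ ∈ supp C, C.a χ * C.a χ ≤ 8 := fun χ hχ =>
    (hO.sgn_eq hx hx1 C (mem_supp.1 hχ).1 (mem_supp.1 hχ).2).2.2
  -- a constituent of degree above one hundred on each side
  have hside : ∀ s : Finset (Cfsg.IrrCharacter G), s ⊆ supp C →
      801 ≤ |∑ χ ∈ s, C.a χ * (deg χ : ℤ)| → ∃ χ ∈ s, 100 < deg χ := by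
    intro s hs hbound
    by_contra hall
    push Not at hall
    have hle' : |∑ χ ∈ s, C.a χ * (deg χ : ℤ)| ≤ ∑ χ ∈ s, C.a χ * C.a χ * 100 := by
      refine (Finset.abs_sum_le_sum_abs _ _).trans (Finset.sum_le_sum fun χ hχ => ?_)
      rw [abs_mul, Nat.abs_cast]
      have h100 : (deg χ : ℤ) ≤ 100 := by exact_mod_cast hall χ hχ
      have habs : |C.a χ| ≤ C.a χ * C.a χ := by
        rw [← abs_mul_abs_self (C.a χ)]
        exact le_mul_of_one_le_left (abs_nonneg _) (Int.one_le_abs (mem_supp.1 (hs hχ)).2)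
      exact mul_le_mul habs h100 (by positivity) (mul_self_nonneg _)
    have h8 := Finset.sum_le_sum_of_subset_of_nonneg (f := fun χ => C.a χ * C.a χ) hs
      (fun χ _ _ => mul_self_nonneg _)
    rw [hsq] at h8
    rw [← Finset.sum_mul] at hle'
    linarith
  have hne1 := abs_add_le (1 : ℤ) (∑ χ ∈ D, C.a χ * (deg χ : ℤ))
  obtain ⟨χ1, hχ1, hf1⟩ := hside D hDs (by rw [abs_one] at hne1; linarith)
  obtain ⟨χ2, hχ2, hf2⟩ := hside (supp C \ D) Finset.sdiff_subset (by
    rw [show ∑ χ ∈ supp C \ D, C.a χ * (deg χ : ℤ) = -(1 + ∑ χ ∈ D, C.a χ * (deg χ : ℤ)) by linarith, abs_neg]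
    linarith)
  have hne : χ1 ≠ χ2 := fun e => (Finset.mem_sdiff.1 hχ2).2 (e ▸ hχ1)
  set X := 2 ^ A * q ^ b with hX
  -- each term of the count
  have hterm : ∀ χ ∈ supp C, -(25 * (C.a χ * C.a χ) * (X : ℤ)) +
      (if 100 < deg χ then 21 * (X : ℤ) else 0) ≤
        200 * (C.a χ * C.a χ * C.a χ * ((X / deg χ : ℕ) : ℤ)) := by
    intro χ hχ
    obtain ⟨hne', ha⟩ := mem_supp.1 hχ
    obtain ⟨hs, h3, h8⟩ := hO.sgn_eq hx hx1 C hne' ha
    obtain ⟨m, hm⟩ := hO.restrict_nat hx hx1 C χ
    obtain ⟨k, hk⟩ := hO.dvd_x hx hx1 C hp hG hχ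
    rw [← hX] at hk
    have h1' := deg_ne_one hG hne'
    have hf0 : deg χ ≠ 0 := fun e0 => h3 (e0 ▸ dvd_zero 3)
    have hdiv : X / deg χ = k := by rw [hk, Nat.mul_div_cancel_left _ (Nat.pos_of_ne_zero hf0)]
    rw [hdiv]
    have hXk : (X : ℤ) = (deg χ : ℤ) * (k : ℤ) := by exact_mod_cast hk
    rw [hXk]
    have hk0 : (0 : ℤ) ≤ k := by positivity
    have hf : (0 : ℤ) ≤ deg χ := by positivity
    have hr : (deg χ : ℤ) % 9 = C.a χ % 9 := by omega
    have h2le : -2 ≤ C.a χ ∧ C.a χ ≤ 2 := by constructor <;> nlinarith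
    obtain ⟨hl', hu'⟩ := h2le
    generalize C.a χ = a at hs hm hr hl' hu' ha ⊢
    have hfk : 0 ≤ (deg χ : ℤ) * k := mul_nonneg hf hk0
    rcases (show a = -2 ∨ a = -1 ∨ a = 1 ∨ a = 2 by omega) with rfl | rfl | rfl | rfl
    · have h16 : (16 : ℤ) ≤ deg χ := by omega
      have := mul_le_mul_of_nonneg_right h16 hk0
      split_ifs with hb
      · have := mul_le_mul_of_nonneg_right (show (101 : ℤ) ≤ deg χ by exact_mod_cast hb) hk0
        linarith
      · linarith
    · have h16 : (8 : ℤ) ≤ deg χ := by omega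
      have := mul_le_mul_of_nonneg_right h16 hk0
      split_ifs with hb
      · have := mul_le_mul_of_nonneg_right (show (101 : ℤ) ≤ deg χ by exact_mod_cast hb) hk0
        linarith
      · linarith
    · split_ifs <;> linarith
    · split_ifs <;> linarith
  have hlow := Finset.sum_le_sum hterm
  have hcount := hO.count_eq hx hx1 C hp hG
  rw [← hX] at hcount
  have h2big : (42 : ℤ) * X ≤ ∑ χ ∈ supp C, if 100 < deg χ then 21 * (X : ℤ) else 0 := by
    refine le_trans ?_ (Finset.sum_le_sum_of_subset_of_nonneg (s := {χ1, χ2}) ?_ fun χ _ _ => ?_)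
    · rw [Finset.sum_pair hne, if_pos hf1, if_pos hf2]; linarith
    · intro χ hχ
      rcases Finset.mem_insert.1 hχ with rfl | hχ
      · exact hDs hχ1
      · rw [Finset.mem_singleton.1 hχ]; exact (Finset.mem_sdiff.1 hχ2).1
    · split_ifs <;> positivity
  rw [Finset.sum_add_distrib, Finset.sum_neg_distrib, ← Finset.sum_mul, ← Finset.mul_sum, hsq,
    ← Finset.mul_sum] at hlow
  have hn : (X : ℤ) ≤ 45 * ((pairs x).ncard : ℤ) := by
    have : (0 : ℤ) ≤ X := by positivity
    linarith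
  have hz2 : z * z = 1 := by rw [← pow_two, ← hzo, pow_orderOf_eq_one]
  have hb' := hO.pairs_bound hx hx1 hG (hzP x hx) hz2 hp.ne_two hp.ne_three hp.posA hp.posb hp.card hzP
  rw [← hX] at hb'
  set u := Nat.sqrt X with hu
  set R := Nat.sqrt (Nat.sqrt (3 * X / 2)) with hR
  have hu1 : u * u ≤ X := Nat.sqrt_le X
  have hu2 : X < (u + 1) * (u + 1) := Nat.lt_succ_sqrt X
  have hu0 : 63000 ≤ u := Nat.le_sqrt.2 (by omega)
  have hc : Nat.sqrt (9 * X) / 2 * 2 ≤ 3 * u + 3 := by
    have h3 : Nat.sqrt (9 * X) < 3 * (u + 1) + 1 := Nat.sqrt_lt.2 (by nlinarith)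
    omega
  have hR2 : R * R * (R * R) * 2 ≤ 3 * X := by
    have e1 : R * R ≤ Nat.sqrt (3 * X / 2) := Nat.sqrt_le _
    have e2 := (Nat.mul_le_mul e1 e1).trans (Nat.sqrt_le (3 * X / 2))
    omega
  have hR3 : R * R * 4 ≤ 5 * (u + 1) := by nlinarith
  have hTle : 2 * 2 ^ A ≤ 9 * (u + 1) := by nlinarith
  have hQle : 2 * q ^ b ≤ 9 * (u + 1) := by nlinarith
  set c := Nat.sqrt (9 * X) / 2 with hcdef
  have hn' : (pairs x).ncard * 2 ≤ 18 + 153 * (u + 1) + 9 * ((R + 1) * (u + 1)) := by
    have := Nat.mul_le_mul_left (3 * (R + 1)) hc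
    nlinarith
  have hX' : X ≤ 45 * (pairs x).ncard := by exact_mod_cast hn
  have hsmall : 2 * u * u ≤ 810 + 6885 * (u + 1) + 405 * ((R + 1) * (u + 1)) := by nlinarith
  have hRu : 2 * u ≤ 405 * R + 7320 := by
    by_contra hlt
    push Not at hlt
    have h3 : (405 * R + 7321) * u ≤ 2 * u * u := Nat.mul_le_mul_right u (by omega)
    nlinarith
  nlinarith

end OneClass

/-- There is no such group. -/
theorem OneClass.false [IsSimpleGroup G] (hG : ¬ IsMulCommutative G) {P : Sylow 3 G} (hO : OneClass P)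
    {q a b : ℕ} (hq : q.Prime) (hq2 : q ≠ 2) (hq3 : q ≠ 3) (hb0 : 0 < b) (hb : ¬ (b = 1 ∧ 11 ≤ q))
    (hcard : Nat.card G = 9 * 2 ^ a * q ^ b) : False := by
  haveI : Fact (Nat.Prime 3) := ⟨Nat.prime_three⟩
  obtain ⟨⟨x, hx⟩, hxo⟩ := exists_prime_orderOf_dvd_card' (G := (P : Subgroup G)) 3 (by rw [hO.card]; norm_num)
  rw [orderOf_mk] at hxo
  have hx1 : x ≠ 1 := fun h => by rw [h, orderOf_one] at hxo; norm_num at hxo
  obtain ⟨z, hzo, hzP⟩ := hO.exists_inverter
  have h5 : 5 ≤ q := by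
    have := hq.two_le
    have : q ≠ 4 := fun e => by subst e; norm_num at hq
    omega
  have ha : 0 < a := by
    rcases Nat.eq_zero_or_pos a with rfl | h
    · exfalso
      have h2 : 2 ∣ Nat.card G := hzo ▸ orderOf_dvd_natCard z
      rw [hcard] at h2
      rcases Nat.prime_two.dvd_mul.1 h2 with h | h
      · norm_num at h
      · exact hq2 ((Nat.prime_dvd_prime_iff_eq Nat.prime_two hq).1 (Nat.prime_two.dvd_of_dvd_pow h)).symm
    · exact h
  have hp : Params G q a b := ⟨hq, hq2, hq3, ha, hb0, by rw [hcard, mul_assoc]⟩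
  obtain ⟨C⟩ := hO.exists_coeffs hx hx1
  obtain ⟨hex2, hexq⟩ := hO.exists_pow_char hx hx1 hp hG
  have h1 : 4 * 2 ^ a ≤ 81 * q ^ b := by
    have h := hO.four_le hx hx1 C hp hG Nat.prime_two (by norm_num) hp.factorization_two hex2
    exact Nat.le_of_mul_le_mul_right (c := 2 ^ a) (by linarith) (Nat.two_pow_pos a)
  have h2 : 4 * q ^ b ≤ 81 * 2 ^ a := by
    have h := hO.four_le hx hx1 C hp hG hq hq3 hp.factorization_q hexq
    exact Nat.le_of_mul_le_mul_right (c := q ^ b) (by linarith) (pow_pos hq.pos b)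
  rcases Nat.lt_or_ge 4000000000 (2 ^ a * q ^ b) with hbig | hsmall
  · exact hO.large_false hx hx1 hp hG hzo hzP h1 h2 hbig C
  have hr : inRange q a b = true := by simp [inRange, h1, h2, hsmall]
  set L := (supp C).toList.map (toCand q C) with hL
  have hsumL : ∀ {M : Type} [AddCommMonoid M] (f : Cand → M),
      (L.map f).sum = ∑ χ ∈ supp C, f (toCand q C χ) := by
    intro M _ f
    rw [hL, List.map_map, Finset.sum_map_toList]
    rfl
  obtain ⟨l', hl', hleaf⟩ := check_sound (check_all hq h5 hb hb0 hr) hr L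
    (fun c hc => by
      obtain ⟨χ, hχ, rfl⟩ := List.mem_map.1 hc
      exact (hO.mem_cands_toCand hx hx1 C hp hG (Finset.mem_toList.1 hχ)).1)
    (fun c hc => by
      obtain ⟨χ, hχ, rfl⟩ := List.mem_map.1 hc
      exact (hO.mem_cands_toCand hx hx1 C hp hG (Finset.mem_toList.1 hχ)).2)
    (by
      rw [wts, hsumL]
      have h8 : ((∑ χ ∈ supp C, (toCand q C χ).w : ℕ) : ℤ) = 8 := by
        push_cast
        rw [← hO.supp_sq hx hx1 C hp hG]
        refine Finset.sum_congr rfl fun χ _ => ?_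
        simp [Cand.w, toCand]
      exact_mod_cast h8)
    (by rw [lin, hsumL]; exact hO.supp_deg hx hx1 C hp hG)
    (by
      rw [sqs, hsumL]
      have := hO.supp_deg_sq hx hx1 C hp hG
      rw [hp.card] at this
      exact this)
  obtain ⟨l, hl, rfl⟩ := exists_perm_map _ hl'
  exact hO.leaf_false hx hx1 C hp hG hzo hzP hl hleaf

end Cfsg.Agent.NineSection.One
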