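import Mathlib
import Cfsg.Agent.S0058
import Cfsg.Agent.Lib.SelfThree.Main
import Cfsg.Agent.Lib.SmallSimple.Basic

/-!
# A strongly self-centralizing subgroup of order nine with one class
-/

set_option autoImplicit false
set_option linter.style.haveILetI false
set_option linter.unusedSectionVars false

namespace Cfsg.Agent.NineSection.One

open Subgroup
open Cfsg.Agent.SelfThree (Inv Self)

universe u

variable {G : Type u} [Group G] [Finite G]

/-- An elementary Sylow 3-subgroup of order nine, the centralizer of each of its non-trivial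
elements, which are all conjugate. -/
structure OneClass (P : Sylow 3 G) : Prop where
  card : Nat.card (P : Subgroup G) = 9
  cube : ∀ g ∈ (P : Subgroup G), g ^ 3 = 1
  cent : ∀ k ∈ (P : Subgroup G), k ≠ 1 → centralizer ({k} : Set G) = (P : Subgroup G)
  fused : ∀ a ∈ (P : Subgroup G), a ≠ 1 → ∀ b ∈ (P : Subgroup G), b ≠ 1 → IsConj a b

namespace OneClass

variable {P : Sylow 3 G} (hO : OneClass P)
include hO

theorem order_eq {g : G} (hg : g ∈ (P : Subgroup G)) (h1 : g ≠ 1) : orderOf g = 3 :=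
  orderOf_eq_prime (hp := ⟨Nat.prime_three⟩) (hO.cube g hg) h1

theorem mem_of_comm {k g : G} (hk : k ∈ (P : Subgroup G)) (h1 : k ≠ 1) (h : k * g = g * k) :
    g ∈ (P : Subgroup G) := by
  rw [← hO.cent k hk h1]
  exact mem_centralizer_singleton_iff.2 h.symm

theorem comm {a b : G} (ha : a ∈ (P : Subgroup G)) (hb : b ∈ (P : Subgroup G)) : a * b = b * a := by
  by_cases h1 : a = 1
  · simp [h1]
  · rw [← hO.cent a ha h1] at hb
    exact (mem_centralizer_singleton_iff.1 hb).symm

theorem exists_conj_mem {g : G} (hg : orderOf g = 3) :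
    ∃ c : G, c * g * c⁻¹ ∈ (P : Subgroup G) := by
  haveI : Fact (Nat.Prime 3) := ⟨Nat.prime_three⟩
  obtain ⟨Q, hQ⟩ := (IsPGroup.of_card (n := 1) (by rw [Nat.card_zpowers, hg, pow_one]) :
    IsPGroup 3 (zpowers g)).exists_le_sylow
  obtain ⟨c, hc⟩ := MulAction.exists_smul_eq G Q P
  refine ⟨c, ?_⟩
  rw [← hc, Sylow.coe_subgroup_smul]
  exact ⟨g, hQ (mem_zpowers g), rfl⟩

theorem isConj {x g : G} (hx : x ∈ (P : Subgroup G)) (hx1 : x ≠ 1) (hg : orderOf g = 3) :
    IsConj x g := by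
  obtain ⟨c, hc⟩ := hO.exists_conj_mem hg
  refine (hO.fused x hx hx1 _ hc ?_).trans (isConj_iff.2 ⟨c⁻¹, by group⟩)
  intro h
  rw [conj_eq_one_iff] at h
  rw [h, orderOf_one] at hg
  norm_num at hg

/-- The elements of order divisible by three have order three. -/
theorem order_three {g : G} (hg : 3 ∣ orderOf g) : orderOf g = 3 := by
  obtain ⟨m, hm⟩ := hg
  have ho := orderOf_pos g
  have hw : orderOf (g ^ m) = 3 := by
    rw [orderOf_pow_of_dvd (by omega) ⟨3, by rw [hm, mul_comm]⟩, hm, Nat.mul_div_cancel _ (by omega)]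
  obtain ⟨c, hc⟩ := hO.exists_conj_mem hw
  have h1 : c * g ^ m * c⁻¹ ≠ 1 := fun h => by
    rw [conj_eq_one_iff] at h
    rw [h, orderOf_one] at hw
    norm_num at hw
  have hmem : c * g * c⁻¹ ∈ (P : Subgroup G) := hO.mem_of_comm hc h1 (by
    rw [← conj_pow]; exact (Commute.pow_self (c * g * c⁻¹) m).eq)
  have h3 := hO.cube _ hmem
  rw [conj_pow, conj_eq_one_iff] at h3
  refine orderOf_eq_prime (hp := ⟨Nat.prime_three⟩) h3 fun h => ?_
  rw [h, one_pow, orderOf_one] at hw
  norm_num at hw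

/-- There are no elements of order `3p`. -/
theorem no_order {p : ℕ} (hp : p ≠ 1) (g : G) : orderOf g ≠ 3 * p := fun h => by
  have := hO.order_three (g := g) ⟨p, h⟩
  omega

/-- An involution inverting `P`. -/
theorem exists_inverter :
    ∃ z : G, orderOf z = 2 ∧ ∀ g ∈ (P : Subgroup G), z * g * z⁻¹ = g⁻¹ := by
  haveI : Fact (Nat.Prime 3) := ⟨Nat.prime_three⟩
  obtain ⟨⟨x, hxP⟩, hxo⟩ := exists_prime_orderOf_dvd_card' (G := (P : Subgroup G)) 3
    (by rw [hO.card]; norm_num)
  rw [orderOf_mk] at hxo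
  have hx1 : x ≠ 1 := fun h => by rw [h, orderOf_one] at hxo; norm_num at hxo
  obtain ⟨n, hn⟩ := isConj_iff.1 (hO.fused x hxP hx1 x⁻¹ (inv_mem hxP) (by simpa using hx1))
  have hn' : n * x⁻¹ * n⁻¹ = x := by
    calc n * x⁻¹ * n⁻¹ = (n * x * n⁻¹)⁻¹ := by group
      _ = x := by rw [hn, inv_inv]
  have hnn : n * n ∈ (P : Subgroup G) := hO.mem_of_comm hxP hx1 (by
    calc x * (n * n) = n * (x⁻¹ * n) := by nth_rw 1 [← hn']; group
      _ = n * (n * x * n⁻¹) * n := by rw [hn]; group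
      _ = n * n * x := by group)
  have h6 : (n * (n * n)) * (n * (n * n)) = 1 := by
    calc n * (n * n) * (n * (n * n)) = (n * n) ^ 3 := by simp only [pow_succ, pow_zero, one_mul, mul_assoc]
      _ = 1 := hO.cube _ hnn
  have hcom : x * (n * n) = n * n * x := hO.comm hxP hnn
  have hinv : (n * (n * n)) * x * (n * (n * n))⁻¹ = x⁻¹ := by
    calc (n * (n * n)) * x * (n * (n * n))⁻¹ = n * (n * n * x * (n * n)⁻¹) * n⁻¹ := by group
      _ = x⁻¹ := by rw [← hcom, mul_inv_cancel_right, hn]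
  set z := n * (n * n) with hz
  have hz1 : z ≠ 1 := fun e => by
    rw [e, one_mul, inv_one, mul_one] at hinv
    have h2 : x ^ 2 = 1 := by rw [pow_two]; nth_rw 2 [hinv]; exact mul_inv_cancel x
    have := orderOf_dvd_of_pow_eq_one h2
    rw [hxo] at this
    norm_num at this
  have hz2 : z⁻¹ = z := inv_eq_of_mul_eq_one_left h6
  refine ⟨z, orderOf_eq_prime (hp := ⟨Nat.prime_two⟩) (by rw [pow_two, h6]) hz1, fun g hg => ?_⟩
  -- `z` normalizes `P`
  have hzg : z * g * z⁻¹ ∈ (P : Subgroup G) := hO.mem_of_comm (inv_mem hxP) (by simpa using hx1) (by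
    rw [← hinv]
    calc z * x * z⁻¹ * (z * g * z⁻¹) = z * (x * g) * z⁻¹ := by group
      _ = z * g * z⁻¹ * (z * x * z⁻¹) := by rw [hO.comm hxP hg]; group)
  set u := g * (z * g * z⁻¹) with hu
  have hfix : z * u * z⁻¹ = u := by
    calc z * u * z⁻¹ = (z * g * z⁻¹) * ((z * z) * g * (z * z)⁻¹) := by rw [hu]; group
      _ = z * g * z⁻¹ * g := by rw [h6]; group
      _ = u := (hO.comm hg hzg).symm
  have hu1 : u = 1 := by
    by_contra h
    have hzP := hO.mem_of_comm (k := u) (g := z) (mul_mem hg hzg) h (by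
      nth_rw 1 [← hfix]; group)
    have h3 := hO.cube z hzP
    rw [pow_succ, pow_two, h6, one_mul] at h3
    exact hz1 h3
  exact (inv_eq_of_mul_eq_one_right hu1).symm

variable {x : G} (hx : x ∈ (P : Subgroup G)) (hx1 : x ≠ 1)
include hx hx1

theorem eq_one_of_comm {H : Subgroup G} (hH : ¬ 3 ∣ Nat.card H) {h : G} (hh : h ∈ H)
    (hc : x * h = h * x) : h = 1 := by
  by_contra h1
  have h3 := hO.order_eq (hO.mem_of_comm hx hx1 hc) h1
  exact hH (h3 ▸ H.orderOf_dvd_natCard hh)

theorem inf_eq_zpowers {H : Subgroup G} (hxH : x ∈ H) (hP : ¬ (P : Subgroup G) ≤ H) :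
    (P : Subgroup G) ⊓ H = zpowers x := by
  have hle : zpowers x ≤ (P : Subgroup G) ⊓ H := zpowers_le.2 ⟨hx, hxH⟩
  refine (eq_of_le_of_card_ge hle ?_).symm
  rw [Nat.card_zpowers, hO.order_eq hx hx1]
  have hd := card_dvd_of_le (inf_le_left : (P : Subgroup G) ⊓ H ≤ (P : Subgroup G))
  rw [hO.card, show (9 : ℕ) = 3 ^ 2 by norm_num, Nat.dvd_prime_pow Nat.prime_three] at hd
  obtain ⟨k, hk, he⟩ := hd
  have hk2 : k ≠ 2 := fun e => hP (by
    have : (P : Subgroup G) ⊓ H = (P : Subgroup G) := eq_of_le_of_card_ge inf_le_left (by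
      rw [he, e, hO.card]; norm_num)
    exact inf_eq_left.1 this)
  rw [he]
  exact (Nat.pow_le_pow_right (by norm_num) (show k ≤ 1 by omega)).trans (by norm_num)

/-- Off `P`, a subgroup containing `x` sees a self-centralizing element. -/
theorem self_sub {H : Subgroup G} (hxH : x ∈ H) (hP : ¬ (P : Subgroup G) ≤ H) :
    Self (⟨x, hxH⟩ : H) where
  order := by rw [orderOf_mk]; exact hO.order_eq hx hx1
  cent g hg := by
    have h : (g : G) ∈ zpowers x := by
      rw [← hO.inf_eq_zpowers hx hx1 hxH hP]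
      exact ⟨hO.mem_of_comm hx hx1 (congrArg Subtype.val hg), g.2⟩
    obtain ⟨k, hk⟩ := h
    exact ⟨k, Subtype.ext (by simpa using hk)⟩

omit hx hx1 in
/-- `P` normalizes no non-trivial subgroup of order prime to three. -/
theorem not_le_normalizer {D : Subgroup G} (hD : D ≠ ⊥) (h3 : ¬ 3 ∣ Nat.card D) :
    ¬ (P : Subgroup G) ≤ normalizer (D : Set G) := by
  intro hle
  haveI : IsMulCommutative (P : Subgroup G) :=
    ⟨⟨fun a b => Subtype.ext (hO.comm a.2 b.2)⟩⟩
  have hnc : ¬ IsCyclic (P : Subgroup G) := fun h => by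
    obtain ⟨g, hg⟩ := h.exists_ofOrder_eq_natCard
    rw [← orderOf_coe, hO.card] at hg
    have := orderOf_dvd_of_pow_eq_one (hO.cube g g.2)
    rw [hg] at this
    norm_num at this
  have hcop : (Nat.card (P : Subgroup G)).Coprime (Nat.card D) := by
    rw [hO.card, show (9 : ℕ) = 3 ^ 2 by norm_num]
    exact (Nat.prime_three.coprime_iff_not_dvd.2 h3).pow_left 2
  refine hD ?_
  rw [← S0058.result (P : Subgroup G) D hnc hle hcop, eq_bot_iff]
  refine iSup₂_le fun a ha g hg => ?_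
  rw [hO.cent a ha.1 ha.2] at hg
  rw [mem_bot]
  by_contra h1
  exact h3 (hO.order_eq hg.2 h1 ▸ D.orderOf_dvd_natCard hg.1)

/-- The element is self-centralizing in the normalizer of an invariant subgroup. -/
theorem self_normalizer {D : Subgroup G} (hD : D ≠ ⊥) (h3 : ¬ 3 ∣ Nat.card D) (hi : Inv x D) :
    Self (⟨x, hi⟩ : normalizer (D : Set G)) :=
  hO.self_sub hx hx1 hi (hO.not_le_normalizer hD h3)

theorem three_dvd_card : 3 ∣ Nat.card G :=
  hO.order_eq hx hx1 ▸ orderOf_dvd_natCard x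

end OneClass

end Cfsg.Agent.NineSection.One
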