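import Cfsg.Agent.Lib.NineSection.One.Data
import Cfsg.Agent.Lib.Transfer.HallEngel

/-!
# Two exceptional orders
-/

set_option autoImplicit false
set_option linter.style.haveILetI false
set_option linter.unusedSectionVars false

namespace Cfsg.Agent.NineSection.One

open Subgroup
open scoped commutatorElement
open Cfsg.Agent.SelfThree (Inv Self MaxInv exists_maxInv)

universe u

variable {G : Type u} [Group G] [Finite G]

namespace OneClass

variable {P : Sylow 3 G} (hO : OneClass P) {x : G} (hx : x ∈ (P : Subgroup G)) (hx1 : x ≠ 1)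
include hO hx hx1

/-- A Sylow subgroup of order two modulo three is normalized by no element of order three. -/
theorem normalizer_not3 {p : ℕ} [Fact p.Prime] (S : Sylow p G) (h : Nat.card (S : Subgroup G) % 3 = 2) :
    ¬ 3 ∣ Nat.card (normalizer ((S : Subgroup G) : Set G)) := by
  intro h3
  haveI : Fact (Nat.Prime 3) := ⟨Nat.prime_three⟩
  obtain ⟨⟨t, ht⟩, hto⟩ := exists_prime_orderOf_dvd_card' (G := normalizer ((S : Subgroup G) : Set G)) 3 h3
  rw [orderOf_mk] at hto
  obtain ⟨c, hc⟩ := isConj_iff.1 (hO.isConj hx hx1 hto).symm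
  set D := (S : Subgroup G).map (MulAut.conj c).toMonoidHom with hD
  have hi : Inv x D := le_normalizer_map _ ⟨t, ht, hc⟩
  have hcard : Nat.card D = Nat.card (S : Subgroup G) := card_map_of_injective (MulAut.conj c).injective
  have hn : ¬ 3 ∣ Nat.card D := by rw [hcard]; omega
  have := hO.card_mod_three hx hx1 hi hn
  omega

variable [IsSimpleGroup G] (hG : ¬ IsMulCommutative G)
include hG

/-- In the order `72000` there is a subgroup of index at most eighty and order prime to three. -/
theorem exists_small_index (hcard : Nat.card G = 9 * (2 ^ 6 * 5 ^ 3)) :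
    ∃ H : Subgroup G, ¬ 3 ∣ Nat.card H ∧ H.index ≤ 80 := by
  haveI : Fact (Nat.Prime 5) := ⟨by norm_num⟩
  obtain ⟨S⟩ : Nonempty (Sylow 5 G) := inferInstance
  have hS : Nat.card (S : Subgroup G) = 125 := by
    rw [SmallSimple.Basic.card_sylow_eq_pow (p := 5) (a := 3) (m := 576) (hcard.trans (by norm_num)) (by norm_num) S]
    norm_num
  set N := normalizer ((S : Subgroup G) : Set G) with hN
  have h3 : ¬ 3 ∣ Nat.card N := hO.normalizer_not3 hx hx1 S (by rw [hS])
  have hmul : Nat.card N * Nat.card (Sylow 5 G) = 72000 := by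
    rw [S.card_eq_index_normalizer]
    refine (Subgroup.card_mul_index N).trans ?_
    rw [hcard]; norm_num
  have hmod : Nat.card (Sylow 5 G) % 5 = 1 := card_sylow_modEq_one 5 G
  have hdN : Nat.card N ∣ 8000 := by
    refine Nat.Coprime.dvd_of_dvd_mul_left ?_
      (show Nat.card N ∣ 9 * 8000 from ⟨Nat.card (Sylow 5 G), by rw [hmul]⟩)
    rw [show (9 : ℕ) = 3 ^ 2 by norm_num]
    exact ((Nat.prime_three.coprime_iff_not_dvd.2 h3).symm).pow_right 2
  obtain ⟨k, hk⟩ : 125 ∣ Nat.card N := hS ▸ card_dvd_of_le le_normalizer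
  have hk64 : k ∣ 64 := by
    refine Nat.dvd_of_mul_dvd_mul_left (show 0 < 125 by norm_num) ?_
    rw [← hk]; exact hdN
  have hkle := Nat.le_of_dvd (by norm_num) hk64
  have hk' : k ∈ Nat.divisors 64 := Nat.mem_divisors.2 ⟨hk64, by norm_num⟩
  rw [show Nat.divisors 64 = {1, 2, 4, 8, 16, 32, 64} by decide] at hk'
  by_cases h16 : 16 ≤ k
  · refine ⟨N, h3, ?_⟩
    have h := Subgroup.card_mul_index N
    rw [hcard, hk] at h
    by_contra hlt
    push Not at hlt
    have := Nat.mul_le_mul (Nat.mul_le_mul_left 125 h16) hlt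
    omega
  · exfalso
    have hk1 : k = 1 := by
      rw [hk] at hmul
      simp only [Finset.mem_insert, Finset.mem_singleton] at hk'
      rcases hk' with rfl | rfl | rfl | rfl | rfl | rfl | rfl <;> omega
    rw [hk1, mul_one] at hk
    have hNS : N = (S : Subgroup G) := (eq_of_le_of_card_ge le_normalizer (by rw [hk, hS])).symm
    have hW : Cfsg.IsWeaklyClosed (S : Subgroup G) (S : Subgroup G) :=
      ⟨le_rfl, fun g hg => by
        rw [← Transfer.Fusion.coe_smul_eq_map] at hg ⊢
        rw [(g • S).3 S.2 hg]⟩
    have hcen : commutator (S : Subgroup G) ≤ center (S : Subgroup G) := by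
      haveI : Nontrivial (S : Subgroup G) := Finite.one_lt_card_iff_nontrivial.1 (by rw [hS]; norm_num)
      haveI := S.2.center_nontrivial
      obtain ⟨i, hi, hci⟩ := (Nat.dvd_prime_pow (p := 5) (m := 3) (by norm_num)).1
        (show Nat.card (center (S : Subgroup G)) ∣ 5 ^ 3 from
          (card_subgroup_dvd_card _).trans (by rw [hS]; norm_num))
      have h1 : 1 < Nat.card (center (S : Subgroup G)) := Finite.one_lt_card
      have hq : Nat.card ((S : Subgroup G) ⧸ center (S : Subgroup G)) * 5 ^ i = 125 := by
        rw [← hci, ← card_eq_card_quotient_mul_card_subgroup, hS]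
      have hcomm : IsMulCommutative ((S : Subgroup G) ⧸ center (S : Subgroup G)) := by
        interval_cases i
        · rw [hci] at h1; norm_num at h1
        · exact ⟨⟨IsPGroup.commutative_of_card_eq_prime_sq (p := 5) (by norm_num at hq ⊢; omega)⟩⟩
        · haveI : Fact (Nat.Prime 5) := inferInstance
          exact (isCyclic_of_prime_card (p := 5) (α := (S : Subgroup G) ⧸ center (S : Subgroup G))
            (by norm_num at hq ⊢; omega)).isMulCommutative
        · haveI : Subsingleton ((S : Subgroup G) ⧸ center (S : Subgroup G)) :=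
            (Nat.card_eq_one_iff_unique.1 (by norm_num at hq ⊢; omega)).1
          exact ⟨⟨fun a b => Subsingleton.elim _ _⟩⟩
      rw [_root_.commutator_def, commutator_le]
      intro a _ b _
      have h := hcomm.is_comm.comm (a : (S : Subgroup G) ⧸ center (S : Subgroup G)) b
      rw [← QuotientGroup.eq_one_iff]
      change QuotientGroup.mk' _ ⁅a, b⁆ = 1
      rw [map_commutatorElement, commutatorElement_eq_one_iff_mul_comm]
      exact h
    have hE : ∀ u ∈ (S : Subgroup G), ∀ w ∈ (S : Subgroup G),
        (fun y : G => y⁻¹ * w⁻¹ * y * w)^[5 - 1] u = 1 := by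
      intro u hu w hw
      set f : G → G := fun y => y⁻¹ * w⁻¹ * y * w with hf
      have hc : ⁅(⟨u, hu⟩ : (S : Subgroup G))⁻¹, (⟨w, hw⟩ : (S : Subgroup G))⁻¹⁆ ∈ center (S : Subgroup G) :=
        hcen (_root_.commutator_def (S : Subgroup G) ▸ commutator_mem_commutator (mem_top _) (mem_top _))
      have h2 : f (f u) = 1 := by
        have e := congrArg Subtype.val (mem_center_iff.1 hc (⟨w, hw⟩ : (S : Subgroup G)))
        simp only [commutatorElement_def, Subgroup.coe_mul, Subgroup.coe_inv, inv_inv] at e
        change w * f u = f u * w at e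
        calc f (f u) = (f u)⁻¹ * w⁻¹ * (f u * w) := by simp only [hf]; group
          _ = (f u)⁻¹ * w⁻¹ * (w * f u) := by rw [e]
          _ = 1 := by group
      have h1 : f 1 = 1 := by simp [hf]
      change f (f (f (f u))) = 1
      rw [h2, h1, h1]
    obtain ⟨-, hle⟩ := Transfer.HallEngel.focal_le S (S : Subgroup G) hW hE
    have hperf : commutator G = ⊤ := NineSection.commutator_eq_top hG
    rw [hperf, inf_top_eq, ← hN, hNS] at hle
    haveI : Group.IsNilpotent (S : Subgroup G) := S.2.isNilpotent
    haveI : Nontrivial (S : Subgroup G) := Finite.one_lt_card_iff_nontrivial.1 (by rw [hS]; norm_num)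
    have hlt := Group.IsSolvable.commutator_lt_top_of_nontrivial (S : Subgroup G)
    have h4 : ⁅(S : Subgroup G), (S : Subgroup G)⁆ = (commutator (S : Subgroup G)).map (S : Subgroup G).subtype := by
      rw [_root_.commutator_def, map_commutator, ← MonoidHom.range_eq_map, range_subtype]
    rw [h4] at hle
    refine hlt.ne (top_le_iff.1 fun g _ => ?_)
    obtain ⟨g', hg', e⟩ := hle g.2
    exact (Subtype.ext e : g' = g) ▸ hg'

end OneClass

end Cfsg.Agent.NineSection.One
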