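import Cfsg.Agent.Lib.NineSection.One.Invariant

/-!
# An upper bound for the number of pairs
-/

set_option autoImplicit false
set_option linter.style.haveILetI false
set_option linter.unusedSectionVars false

namespace Cfsg.Agent.NineSection.One

open Subgroup
open Cfsg.Agent.SelfThree (Inv Self MaxInv exists_maxInv inv_comap)

universe u v

variable {G : Type u} [Group G] [Finite G]

/-- The second factors of the factorizations of `x` into elements of order three. -/
def pairs (x : G) : Set G := {y | orderOf y = 3 ∧ orderOf (y⁻¹ * x) = 3}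

/-- The invariant Sylow subgroups with normalizer three times as large. -/
def xType (x : G) (m : ℕ) : Set (Subgroup G) :=
  {M | MaxInv x M ∧ Nat.card M = m ∧ Nat.card (normalizer (M : Set G)) = 3 * Nat.card M}

/-- Their non-trivial elements. -/
def xUnion (x : G) (m : ℕ) : Set G := {g | g ≠ 1 ∧ ∃ M ∈ xType x m, g ∈ M}

/-- The remaining maximal invariant subgroups fixed by `z`. -/
noncomputable def zType (x z : G) : Finset (Subgroup G) :=
  (Set.toFinite {M : Subgroup G | MaxInv x M ∧ Inv z M ∧ M ≠ ⊥ ∧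
    Nat.card (normalizer (M : Set G)) = 6 * Nat.card M}).toFinset

/-- The fixed points of `z` in `M`. -/
noncomputable def fixCard (z : G) (M : Subgroup G) : ℕ :=
  Nat.card (M ⊓ centralizer ({z} : Set G) : Subgroup G)

theorem mem_zType {x z : G} {M : Subgroup G} :
    M ∈ zType x z ↔ MaxInv x M ∧ Inv z M ∧ M ≠ ⊥ ∧
      Nat.card (normalizer (M : Set G)) = 6 * Nat.card M := by
  simp [zType]

theorem card_mul_le {H K : Subgroup G} (h : H ⊓ K = ⊥) : Nat.card H * Nat.card K ≤ Nat.card G := by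
  rw [← Nat.card_prod]
  refine Nat.card_le_card_of_injective (fun p : H × K => (p.1 : G) * p.2) ?_
  rintro ⟨a, b⟩ ⟨a', b'⟩ e
  have e' : (a : G) * b = a' * b' := e
  have h1 : (a' : G)⁻¹ * a = b' * (b : G)⁻¹ := by
    calc (a' : G)⁻¹ * a = (a' : G)⁻¹ * (a * b) * (b : G)⁻¹ := by group
      _ = b' * (b : G)⁻¹ := by rw [e']; group
  have h2 : (a' : G)⁻¹ * a ∈ H ⊓ K :=
    mem_inf.2 ⟨mul_mem (inv_mem a'.2) a.2, h1 ▸ mul_mem b'.2 (inv_mem b.2)⟩
  rw [h, mem_bot] at h2
  obtain rfl : a' = a := Subtype.ext (inv_mul_eq_one.1 h2)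
  exact Prod.ext rfl (Subtype.ext (mul_left_cancel e'))

theorem ncard_union_le {ι : Type v} (s : Finset ι) (F : ι → Set G) :
    (⋃ i ∈ s, F i).ncard ≤ ∑ i ∈ s, (F i).ncard :=
  Finset.set_ncard_biUnion_le _ _

theorem map_conj_conj (M : Subgroup G) (a c : G) :
    (M.map (MulAut.conj c).toMonoidHom).map (MulAut.conj a).toMonoidHom =
      M.map (MulAut.conj (a * c)).toMonoidHom := by
  rw [Subgroup.map_map]; congr 1; ext; simp [mul_assoc]

theorem map_conj_of_mem {M : Subgroup G} {y : G} (hy : y ∈ normalizer (M : Set G)) :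
    M.map (MulAut.conj y).toMonoidHom = M := by
  refine le_antisymm ?_ fun k hk => ⟨y⁻¹ * k * y, ?_, by simp [mul_assoc]⟩
  · rintro _ ⟨k, hk, rfl⟩; exact (mem_normalizer_iff.1 hy k).1 hk
  · simpa using (mem_normalizer_iff.1 (inv_mem hy) k).1 hk

namespace OneClass

variable {P : Sylow 3 G} (hO : OneClass P) {x : G} (hx : x ∈ (P : Subgroup G)) (hx1 : x ≠ 1)
include hO hx hx1

/-- A function on `P` constant on the cosets of `⟨x⟩` takes at most three values. -/
theorem ncard_translates {α : Type v} (f : G → α) (hf : ∀ p ∈ (P : Subgroup G), f (p * x) = f p) :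
    (f '' ((P : Subgroup G) : Set G)).ncard ≤ 3 := by
  set S := f '' ((P : Subgroup G) : Set G) with hS
  haveI : Finite S := ((Set.toFinite ((P : Subgroup G) : Set G)).image f).to_subtype
  choose g hg hfg using fun a : S => a.2
  have hpow : ∀ (a : S) (k : ℕ), f (g a * x ^ k) = a := fun a k => by
    induction k with
    | zero => simpa using hfg a
    | succ k ih => rw [pow_succ, ← mul_assoc, hf _ (mul_mem (hg a) (pow_mem hx k)), ih]
  have h9 : Nat.card (S × Fin 3) ≤ Nat.card (P : Subgroup G) := by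
    refine Nat.card_le_card_of_injective
      (fun p : S × Fin 3 => (⟨g p.1 * x ^ (p.2 : ℕ), mul_mem (hg p.1) (pow_mem hx _)⟩ : (P : Subgroup G))) ?_
    rintro ⟨a, i⟩ ⟨c, j⟩ e
    have e' : g a * x ^ (i : ℕ) = g c * x ^ (j : ℕ) := congrArg Subtype.val e
    have hac : a = c := Subtype.ext (by rw [← hpow a i, e', hpow c j])
    subst hac
    have hij := pow_inj_mod.1 (mul_left_cancel e')
    rw [hO.order_eq hx hx1, Nat.mod_eq_of_lt i.2, Nat.mod_eq_of_lt j.2] at hij
    rw [Fin.ext hij]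
  rw [Nat.card_prod, hO.card, Nat.card_eq_fintype_card (α := Fin 3), Fintype.card_fin,
    Nat.card_coe_set_eq] at h9
  omega

/-- The factorizations lead to invariant subgroups. -/
theorem pair_mem {y : G} (hy : y ∈ pairs x) (hyP : y ∉ (P : Subgroup G)) :
    y⁻¹ * x⁻¹ ≠ 1 ∧ ∃ M, MaxInv x M ∧ y⁻¹ * x⁻¹ ∈ M := by
  haveI : Fact (Nat.Prime 3) := ⟨Nat.prime_three⟩
  set u := y⁻¹ * x⁻¹ with hu
  have hx3 : x * x * x = 1 := by rw [← pow_two, ← pow_succ]; exact hO.cube x hx
  have ha : y⁻¹ * y⁻¹ * y⁻¹ = 1 := by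
    have := pow_orderOf_eq_one y⁻¹
    rwa [orderOf_inv, hy.1, pow_succ, pow_two] at this
  have hab : (y⁻¹ * x) * (y⁻¹ * x) * (y⁻¹ * x) = 1 := by
    have := pow_orderOf_eq_one (y⁻¹ * x)
    rwa [hy.2, pow_succ, pow_two] at this
  have hu1 : u ≠ 1 := fun e => hyP (by
    have : y⁻¹ = x := mul_inv_eq_one.1 e
    rw [← inv_inv y, this]; exact inv_mem hx)
  refine ⟨hu1, ?_⟩
  set v := x * u * x⁻¹ with hv
  have hxi : x⁻¹ * x⁻¹ = x := by
    calc x⁻¹ * x⁻¹ = (x * x * x)⁻¹ * x := by group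
      _ = x := by rw [hx3, inv_one, one_mul]
  have hya : y⁻¹ * y⁻¹ = y := by
    calc y⁻¹ * y⁻¹ = (y⁻¹ * y⁻¹ * y⁻¹) * y := by group
      _ = y := by rw [ha, one_mul]
  have h3 : y⁻¹ * x * y⁻¹ = x⁻¹ * y * x⁻¹ := by
    calc y⁻¹ * x * y⁻¹ = (y⁻¹ * x * (y⁻¹ * x) * (y⁻¹ * x)) * (x⁻¹ * y * x⁻¹) := by group
      _ = _ := by rw [hab, one_mul]
  have h1 : u * v = y * x := by
    calc u * v = y⁻¹ * y⁻¹ * (x⁻¹ * x⁻¹) := by rw [hv, hu]; group
      _ = y * x := by rw [hya, hxi]
  have h2 : v * u = y * x := by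
    calc v * u = x * (y⁻¹ * (x⁻¹ * x⁻¹) * y⁻¹) * x⁻¹ := by rw [hv, hu]; group
      _ = x * (x⁻¹ * y * x⁻¹) * x⁻¹ := by rw [hxi, h3]
      _ = y * (x⁻¹ * x⁻¹) := by group
      _ = y * x := by rw [hxi]
  have huv : u * v = v * u := h1.trans h2.symm
  set A := closure ({u, v} : Set G) with hA
  have hwA : x * v * x⁻¹ ∈ A := by
    have e : x * v * x⁻¹ = (u * v)⁻¹ := by
      refine eq_inv_of_mul_eq_one_left ?_
      calc x * v * x⁻¹ * (u * v) = x * v * x⁻¹ * (y * x) := by rw [h1]
        _ = x * x * y⁻¹ * (x * x * x)⁻¹ * y * x := by rw [hv, hu]; group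
        _ = x * x * x := by rw [hx3]; group; exact hx3
        _ = 1 := hx3
    rw [e]
    exact inv_mem (mul_mem (subset_closure (by simp)) (subset_closure (by simp)))
  have hle : A.map (MulAut.conj x).toMonoidHom ≤ A := by
    rw [hA, MonoidHom.map_closure, closure_le]
    rintro _ ⟨g, hg, rfl⟩
    rcases hg with rfl | rfl
    · exact subset_closure (by simp [hv])
    · exact hwA
  have hAi : Inv x A := by
    have heq := eq_of_le_of_card_ge hle (card_map_of_injective (MulAut.conj x).injective).ge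
    refine mem_normalizer_iff.2 fun g => ⟨fun hg => hle ⟨g, hg, rfl⟩, fun hg => ?_⟩
    rw [← heq] at hg
    obtain ⟨g', hg', e⟩ := hg
    exact (mul_left_cancel (mul_right_cancel (show x * g' * x⁻¹ = x * g * x⁻¹ from e))) ▸ hg'
  have hA3 : ¬ 3 ∣ Nat.card A := by
    intro h3
    obtain ⟨⟨k, hkA⟩, hk⟩ := exists_prime_orderOf_dvd_card' (G := A) 3 h3
    rw [orderOf_mk] at hk
    obtain ⟨c, hc⟩ := hO.exists_conj_mem hk
    have hc1 : c * k * c⁻¹ ≠ 1 := fun e => by
      rw [conj_eq_one_iff] at e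
      rw [e, orderOf_one] at hk
      norm_num at hk
    have hcomm : ∀ g ∈ A, ∀ h ∈ A, g * h = h * g := by
      have hc' : A ≤ centralizer (A : Set G) := by
        rw [hA, closure_le, Set.subset_def]
        intro g hg
        rw [SetLike.mem_coe, centralizer_closure, mem_centralizer_iff]
        intro h hh
        rcases hg with rfl | rfl <;> rcases hh with rfl | rfl
        exacts [rfl, huv.symm, huv, rfl]
      exact fun g hg h hh => (mem_centralizer_iff.1 (hc' hg) h hh).symm
    have hin : ∀ g ∈ A, c * g * c⁻¹ ∈ (P : Subgroup G) := fun g hg => hO.mem_of_comm hc hc1 (by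
      calc c * k * c⁻¹ * (c * g * c⁻¹) = c * (k * g) * c⁻¹ := by group
        _ = _ := by rw [hcomm k hkA g hg]; group)
    have huA : u ∈ A := subset_closure (by simp)
    have hvA : v ∈ A := subset_closure (by simp)
    have hu' := hin u huA
    have hu'1 : c * u * c⁻¹ ≠ 1 := fun e => hu1 (conj_eq_one_iff.1 e)
    have hv' := hin v hvA
    have hv'1 : c * v * c⁻¹ ≠ 1 := fun e => by
      rw [conj_eq_one_iff, hv, conj_eq_one_iff] at e
      exact hu1 e
    set x' := c * x * c⁻¹ with hx'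
    have hx'v : x' * (c * u * c⁻¹) * x'⁻¹ = c * v * c⁻¹ := by rw [hx', hv]; group
    have hle' : (P : Subgroup G).map (MulAut.conj x').toMonoidHom ≤ (P : Subgroup G) := by
      rintro _ ⟨g, hg, rfl⟩
      refine hO.mem_of_comm hv' hv'1 ?_
      change c * v * c⁻¹ * (x' * g * x'⁻¹) = x' * g * x'⁻¹ * (c * v * c⁻¹)
      rw [← hx'v]
      calc x' * (c * u * c⁻¹) * x'⁻¹ * (x' * g * x'⁻¹) = x' * (c * u * c⁻¹ * g) * x'⁻¹ := by group
        _ = _ := by rw [hO.comm hu' hg]; group
    have hxN : x' ∈ normalizer ((P : Subgroup G) : Set G) := by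
      have heq := eq_of_le_of_card_ge hle' (card_map_of_injective (MulAut.conj x').injective).ge
      refine mem_normalizer_iff.2 fun g => ⟨fun hg => hle' ⟨g, hg, rfl⟩, fun hg => ?_⟩
      rw [← heq] at hg
      obtain ⟨g', hg', e⟩ := hg
      exact (mul_left_cancel (mul_right_cancel (show x' * g' * x'⁻¹ = x' * g * x'⁻¹ from e))) ▸ hg'
    have hp3 : IsPGroup 3 (zpowers x') := IsPGroup.of_card (n := 1) (by
      rw [Nat.card_zpowers, hx', pow_one]
      exact (orderOf_injective (MulAut.conj c).toMonoidHom (MulAut.conj c).injective x).trans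
        (hO.order_eq hx hx1))
    have hxP : x' ∈ (P : Subgroup G) := by
      have h : x' ∈ zpowers x' ⊓ normalizer ((P : Subgroup G) : Set G) := ⟨mem_zpowers _, hxN⟩
      rw [show zpowers x' ⊓ normalizer ((P : Subgroup G) : Set G) = zpowers x' ⊓ (P : Subgroup G) from
        hp3.inf_normalizer_sylow P] at h
      exact h.2
    have hcx : x * u = u * x := by
      have h := hO.comm hxP hu'
      rw [hx'] at h
      calc x * u = c⁻¹ * (c * x * c⁻¹ * (c * u * c⁻¹)) * c := by group
        _ = c⁻¹ * (c * u * c⁻¹ * (c * x * c⁻¹)) * c := by rw [h]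
        _ = u * x := by group
    refine hyP ?_
    have hm : u * x ∈ (P : Subgroup G) := mul_mem (hO.mem_of_comm hx hx1 hcx) hx
    have : u * x = y⁻¹ := by rw [hu]; group
    rw [this] at hm
    exact inv_mem_iff.1 hm
  obtain ⟨M, hM, hle⟩ := exists_maxInv hAi hA3
  exact ⟨M, hM, hle (subset_closure (by simp))⟩

variable [IsSimpleGroup G] (hG : ¬ IsMulCommutative G)
  {z : G} (hz : z * x * z⁻¹ = x⁻¹)
include hG

include hz in
/-- The elements conjugating an invariant subgroup to another one. -/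
theorem conj_cases {M : Subgroup G} (hM : MaxInv x M) (hM0 : M ≠ ⊥) {g : G}
    (hg : Inv x (M.map (MulAut.conj g).toMonoidHom)) :
    ∃ h ∈ (P : Subgroup G), M.map (MulAut.conj g).toMonoidHom = M.map (MulAut.conj h).toMonoidHom ∨
      M.map (MulAut.conj g).toMonoidHom = M.map (MulAut.conj (z * h)).toMonoidHom := by
  have hgx : g⁻¹ * x * g ∈ normalizer (M : Set G) := by
    rw [SelfThree.Inv, ← map_normalizer_eq_of_bijective M (f := (MulAut.conj g).toMonoidHom)
      (MulAut.conj g).bijective] at hg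
    obtain ⟨y, hy, e⟩ := hg
    have : y = g⁻¹ * x * g := by
      have e' : g * y * g⁻¹ = x := e
      rw [← e']; group
    exact this ▸ hy
  have hxs := hO.self_normalizer hx hx1 hM0 hM.not3 hM.inv
  have ho : orderOf (⟨g⁻¹ * x * g, hgx⟩ : normalizer (M : Set G)) = 3 := by
    rw [orderOf_mk]
    have := (orderOf_injective (MulAut.conj g⁻¹).toMonoidHom (MulAut.conj g⁻¹).injective x).trans
      (hO.order_eq hx hx1)
    simpa using this
  obtain ⟨⟨n, hn⟩, hn'⟩ := hxs.exists_conj ho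
  have hmap : M.map (MulAut.conj g).toMonoidHom = M.map (MulAut.conj (g * n)).toMonoidHom := by
    rw [← map_conj_conj, map_conj_of_mem hn]
  rcases hn' with e | e
  · have e' : n * x * n⁻¹ = g⁻¹ * x * g := congrArg Subtype.val e
    refine ⟨g * n, hO.mem_of_comm hx hx1 ?_, Or.inl hmap⟩
    calc x * (g * n) = g * (g⁻¹ * x * g) * n := by group
      _ = g * (n * x * n⁻¹) * n := by rw [e']
      _ = g * n * x := by group
  · have e' : n * x⁻¹ * n⁻¹ = g⁻¹ * x * g := congrArg Subtype.val e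
    refine ⟨z⁻¹ * (g * n), hO.mem_of_comm hx hx1 ?_, Or.inr (by rw [mul_inv_cancel_left]; exact hmap)⟩
    calc x * (z⁻¹ * (g * n)) = z⁻¹ * ((z * x * z⁻¹) * (g * n)) := by group
      _ = z⁻¹ * (x⁻¹ * (g * n)) := by rw [hz]
      _ = z⁻¹ * (g * (g⁻¹ * x * g)⁻¹ * n) := by group
      _ = z⁻¹ * (g * (n * x⁻¹ * n⁻¹)⁻¹ * n) := by rw [e']
      _ = z⁻¹ * (g * n) * x := by group

include hz in
/-- At most six invariant Sylow subgroups of the first kind. -/
theorem ncard_xUnion {p a k : ℕ} [Fact p.Prime] (hk : Nat.card G = p ^ a * k) (hpk : ¬ p ∣ k)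
    (ha : 0 < a) : (xUnion x (p ^ a)).ncard ≤ 6 * (p ^ a - 1) := by
  classical
  have ha' : p ^ a = p ^ (Nat.card G).factorization p := by
    have h := SmallSimple.Basic.card_sylow_eq_pow (p := p) hk hpk (default : Sylow p G)
    rw [SmallSimple.Basic.card_sylow_eq] at h
    exact h.symm
  rcases (xType x (p ^ a)).eq_empty_or_nonempty with he | ⟨M0, hM0⟩
  · refine le_trans (le_of_eq ?_) (Nat.zero_le _)
    rw [Set.ncard_eq_zero]
    refine Set.eq_empty_iff_forall_notMem.2 ?_
    rintro g ⟨-, M, hM, -⟩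
    rw [he] at hM
    exact hM
  · have hM00 : M0 ≠ ⊥ := fun e => by
      have h := hM0.2.1
      rw [e, card_bot] at h
      exact (Nat.one_lt_pow ha.ne' (Fact.out : p.Prime).one_lt).ne' h.symm
    set fam : Set (Subgroup G) :=
      ((fun h => M0.map (MulAut.conj h).toMonoidHom) '' ((P : Subgroup G) : Set G)) ∪
      ((fun h => M0.map (MulAut.conj (z * h)).toMonoidHom) '' ((P : Subgroup G) : Set G)) with hfam
    have hsub : xType x (p ^ a) ⊆ fam := by
      rintro M ⟨hM, hMc, -⟩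
      obtain ⟨g, hg⟩ := MulAction.exists_smul_eq G (Sylow.ofCard M0 (hM0.2.1.trans ha'))
        (Sylow.ofCard M (hMc.trans ha'))
      have e : M0.map (MulAut.conj g).toMonoidHom = M := by
        have h1 := congrArg Sylow.toSubgroup hg
        rw [Sylow.coe_subgroup_smul] at h1
        exact h1
      obtain ⟨h, hh, hcase⟩ := hO.conj_cases hx hx1 hG hz hM0.1 hM00 (g := g) (e ▸ hM.inv)
      rw [e] at hcase
      rcases hcase with r | r
      exacts [Or.inl ⟨h, hh, r.symm⟩, Or.inr ⟨h, hh, r.symm⟩]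
    have h6 : fam.ncard ≤ 6 := by
      refine (Set.ncard_union_le _ _).trans ?_
      have h1 := hO.ncard_translates hx hx1 (fun h => M0.map (MulAut.conj h).toMonoidHom)
        (fun h _ => by rw [← map_conj_conj, map_conj_of_mem hM0.1.inv])
      have h2 := hO.ncard_translates hx hx1 (fun h => M0.map (MulAut.conj (z * h)).toMonoidHom)
        (fun h _ => by rw [← mul_assoc z, ← map_conj_conj, map_conj_of_mem hM0.1.inv])
      omega
    set F := (Set.toFinite (xType x (p ^ a))).toFinset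
    have hU : xUnion x (p ^ a) ⊆ ⋃ M ∈ F, ((M : Set G) \ {1}) := by
      rintro g ⟨hg1, M, hM, hgM⟩
      exact Set.mem_biUnion (by simpa [F] using hM) ⟨hgM, hg1⟩
    refine (Set.ncard_le_ncard hU).trans ((ncard_union_le F _).trans ?_)
    refine (Finset.sum_le_card_nsmul F _ (p ^ a - 1) fun M hM => ?_).trans ?_
    · rw [Set.ncard_sdiff_singleton_of_mem (one_mem M), ← Nat.card_coe_set_eq]
      have hM' : M ∈ xType x (p ^ a) := by simpa [F] using hM
      exact le_of_eq (congrArg (· - 1) hM'.2.1)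
    · rw [smul_eq_mul]
      refine Nat.mul_le_mul_right _ ?_
      rw [← Set.ncard_eq_toFinset_card _ (Set.toFinite _)]
      exact (Set.ncard_le_ncard hsub).trans h6

include hz in
/-- With normalizer six times as large a translate is fixed by `z`. -/
theorem exists_translate {M : Subgroup G} (hM : MaxInv x M) (hM0 : M ≠ ⊥)
    (h6 : Nat.card (normalizer (M : Set G)) = 6 * Nat.card M) (hz2 : z * z = 1)
    (hzP : ∀ g ∈ (P : Subgroup G), z * g * z⁻¹ = g⁻¹) :
    ∃ p ∈ (P : Subgroup G), M.map (MulAut.conj p).toMonoidHom ∈ zType x z := by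
  set N := normalizer (M : Set G) with hNdef
  haveI : (M.subgroupOf N).Normal := normal_in_normalizer
  have hxs := hO.self_normalizer hx hx1 hM0 hM.not3 hM.inv
  have h3 : ¬ 3 ∣ Nat.card (M.subgroupOf N) := by
    rw [Nat.card_congr (subgroupOfEquivOfLe le_normalizer).toEquiv]; exact hM.not3
  have hq := hxs.quotient (M.subgroupOf N) h3
  have hq6 : Nat.card (N ⧸ M.subgroupOf N) = 6 := by
    have := card_eq_card_quotient_mul_card_subgroup (M.subgroupOf N)
    rw [h6, Nat.card_congr (subgroupOfEquivOfLe le_normalizer).toEquiv] at this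
    exact (Nat.eq_of_mul_eq_mul_right Nat.card_pos this).symm
  set y := QuotientGroup.mk' (M.subgroupOf N) (⟨x, hM.inv⟩ : N) with hy
  have hidx : (zpowers y).index = 2 := by
    have := card_mul_index (zpowers y)
    rw [Nat.card_zpowers, hq.order, hq6] at this
    omega
  haveI := Subgroup.normal_of_index_eq_two hidx
  obtain ⟨s, hs⟩ : ∃ s, s ∉ zpowers y := by
    by_contra hall
    push Not at hall
    rw [(eq_top_iff' _).2 hall, index_top] at hidx
    omega
  have hsy : s * y * s⁻¹ = y⁻¹ := by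
    rcases hq.mem_zpowers_iff.1 ((inferInstance : (zpowers y).Normal).conj_mem y (mem_zpowers y) s)
      with e | e | e
    · exact absurd (conj_eq_one_iff.1 e) hq.ne_one
    · exact absurd (hq.cent s (mul_inv_eq_iff_eq_mul.1 e).symm) hs
    · exact e
  obtain ⟨s, rfl⟩ := QuotientGroup.mk'_surjective (M.subgroupOf N) s
  have hsx : (s : G) * x * (s : G)⁻¹ * x ∈ M := by
    have h : s * ⟨x, hM.inv⟩ * s⁻¹ * ⟨x, hM.inv⟩ ∈ M.subgroupOf N := (QuotientGroup.eq_one_iff _).1 (by
      change QuotientGroup.mk' (M.subgroupOf N) _ = 1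
      rw [map_mul, map_mul, map_mul, map_inv, ← hy, hsy, inv_mul_cancel])
    exact mem_subgroupOf.1 h
  obtain ⟨h, hh, e⟩ := hO.exists_conj_of_coset (inv_mem hx) (inv_ne_one.2 hx1) hM.inv.inv hM.not3 hsx
  rw [mul_inv_cancel_right] at e
  have hinv : h⁻¹ * s * x * (h⁻¹ * (s : G))⁻¹ = x⁻¹ := by
    calc h⁻¹ * s * x * (h⁻¹ * (s : G))⁻¹ = h⁻¹ * ((s : G) * x * (s : G)⁻¹) * h := by group
      _ = x⁻¹ := by rw [← e]; group
  set s' := h⁻¹ * (s : G)
  have hs'N : s' ∈ N := mul_mem (inv_mem (le_normalizer hh)) s.2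
  set p := z⁻¹ * s' with hp
  have hpP : p ∈ (P : Subgroup G) := hO.mem_of_comm hx hx1 (by
    have h1 : z⁻¹ * x⁻¹ * z = x := by rw [← hz]; group
    calc x * p = (z⁻¹ * x⁻¹ * z) * (z⁻¹ * s') := by rw [h1]
      _ = z⁻¹ * (s' * x * s'⁻¹) * s' := by rw [hinv]; group
      _ = _ := by rw [hp]; group)
  refine ⟨p⁻¹, inv_mem hpP, mem_zType.2 ⟨hO.maxInv_conj hx hx1 hM (inv_mem hpP), ?_, ?_, ?_⟩⟩
  · refine le_normalizer_map _ ⟨s', hs'N, ?_⟩
    change p⁻¹ * s' * p⁻¹⁻¹ = z
    have hzi : z⁻¹ = z := inv_eq_of_mul_eq_one_left hz2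
    calc p⁻¹ * s' * p⁻¹⁻¹ = p⁻¹ * (z * (z⁻¹ * s')) * p := by group
      _ = p⁻¹ * z * (p * p) := by rw [← hp]; group
      _ = z * (z⁻¹ * p⁻¹ * z⁻¹⁻¹) * (p * p) := by group
      _ = z * (p * p * p) := by
        rw [show z⁻¹ * p⁻¹ * z⁻¹⁻¹ = p by rw [hzi, hzP _ (inv_mem hpP), inv_inv]]; group
      _ = z := by rw [← pow_two, ← pow_succ, hO.cube p hpP, mul_one]
  · exact fun e => hM0 ((map_eq_bot_iff_of_injective _ (MulAut.conj p⁻¹).injective).1 e)
  · rw [← map_normalizer_eq_of_bijective M (f := (MulAut.conj p⁻¹).toMonoidHom) (MulAut.conj p⁻¹).bijective,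
      card_map_of_injective (MulAut.conj p⁻¹).injective, card_map_of_injective (MulAut.conj p⁻¹).injective, h6]

include hz in
/-- Every factorization comes from one of three families of subgroups. -/
theorem pairs_le {q A b : ℕ} [hq : Fact q.Prime] (hq2 : q ≠ 2) (hq3 : q ≠ 3) (hA : 0 < A) (hb : 0 < b)
    (hcard : Nat.card G = 9 * (2 ^ A * q ^ b)) (hz2 : z * z = 1)
    (hzP : ∀ g ∈ (P : Subgroup G), z * g * z⁻¹ = g⁻¹) :
    (pairs x).ncard ≤ 7 + (xUnion x (2 ^ A)).ncard + (xUnion x (q ^ b)).ncard +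
      3 * ∑ M ∈ zType x z, (Nat.card M - 1) := by
  classical
  set Z : Set G := ⋃ M ∈ zType x z, ((M : Set G) \ {1}) with hZ
  set Y : Set G := {g | ∃ p ∈ (P : Subgroup G), p * g * p⁻¹ ∈ Z} with hY
  set Pin : Set G := ((P : Subgroup G) : Set G) \ {1, x} with hPin
  have hsub : pairs x ⊆ Pin ∪ (fun u => (u * x)⁻¹) '' (xUnion x (2 ^ A) ∪ xUnion x (q ^ b) ∪ Y) := by
    intro y hy
    by_cases hyP : y ∈ (P : Subgroup G)
    · refine Or.inl ⟨hyP, ?_⟩
      rintro (rfl | rfl)
      · have := hy.1; rw [orderOf_one] at this; norm_num at this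
      · have := hy.2; rw [inv_mul_cancel, orderOf_one] at this; norm_num at this
    obtain ⟨hu1, M, hM, huM⟩ := hO.pair_mem hx hx1 hy hyP
    refine Or.inr ⟨y⁻¹ * x⁻¹, ?_, by group⟩
    have hM0 : M ≠ ⊥ := fun e => hu1 (by rwa [e, mem_bot] at huM)
    rcases hO.card_normalizer hx hx1 hG hM hM0 with h3 | h6
    · have hMdvd : Nat.card M ∣ 2 ^ A * q ^ b := by
        refine Nat.Coprime.dvd_of_dvd_mul_left ?_ (hcard ▸ card_subgroup_dvd_card M)
        rw [show (9 : ℕ) = 3 ^ 2 by norm_num]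
        exact ((Nat.prime_three.coprime_iff_not_dvd.2 hM.not3).symm).pow_right 2
      haveI : Fact (Nat.Prime 2) := ⟨Nat.prime_two⟩
      have h32 : ¬ (2 : ℕ) ∣ 9 * q ^ b := fun h => by
        rcases Nat.prime_two.dvd_mul.1 h with h | h
        · norm_num at h
        · exact hq2 ((Nat.prime_dvd_prime_iff_eq Nat.prime_two hq.out).1 (Nat.prime_two.dvd_of_dvd_pow h)).symm
      have h3q : ¬ q ∣ 9 * 2 ^ A := fun h => by
        rcases hq.out.dvd_mul.1 h with h | h
        · exact hq3 ((Nat.prime_dvd_prime_iff_eq hq.out Nat.prime_three).1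
            (hq.out.dvd_of_dvd_pow (n := 2) (by norm_num; exact h)))
        · exact hq2 ((Nat.prime_dvd_prime_iff_eq hq.out Nat.prime_two).1 (hq.out.dvd_of_dvd_pow h))
      have hT : 2 ∣ Nat.card M → 2 ^ A ∣ Nat.card M := fun h2 => by
        obtain ⟨S, hS, -⟩ := hO.exists_sylow hx hx1 hG hM h2 (fun _ => h3)
        have := card_dvd_of_le hS
        rwa [SmallSimple.Basic.card_sylow_eq_pow (p := 2) (a := A) (m := 9 * q ^ b) (hcard.trans (by ring)) h32 S] at this
      have hQ : q ∣ Nat.card M → q ^ b ∣ Nat.card M := fun h2 => by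
        obtain ⟨S, hS, -⟩ := hO.exists_sylow hx hx1 hG hM h2 (fun _ => h3)
        have := card_dvd_of_le hS
        rwa [SmallSimple.Basic.card_sylow_eq_pow (p := q) (a := b) (m := 9 * 2 ^ A) (hcard.trans (by ring)) h3q S] at this
      have hcop : Nat.Coprime (2 ^ A) (q ^ b) :=
        (((Nat.coprime_primes Nat.prime_two hq.out).2 (Ne.symm hq2)).pow_left A).pow_right b
      have hqpos : 0 < q := hq.out.pos
      have hM1 : Nat.card M ≠ 1 := fun e => hM0 (card_eq_one.1 e)
      by_cases h2 : 2 ∣ Nat.card M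
      · by_cases hqM : q ∣ Nat.card M
        · exfalso
          have hX : Nat.card M = 2 ^ A * q ^ b :=
            Nat.dvd_antisymm hMdvd (hcop.mul_dvd_of_dvd_of_dvd (hT h2) (hQ hqM))
          have hne : normalizer (M : Set G) ≠ ⊤ := fun e => by
            rw [e, card_top, hcard, hX] at h3
            have : 0 < 2 ^ A * q ^ b := by positivity
            omega
          have hdvd := SmallSimple.Basic.two_mul_card_dvd_factorial hG _ hne
          have hidx : (normalizer (M : Set G)).index = 3 := by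
            have h := card_mul_index (normalizer (M : Set G))
            rw [h3, hcard, hX] at h
            exact Nat.eq_of_mul_eq_mul_left (show 0 < 3 * (2 ^ A * q ^ b) by positivity) (by rw [h]; ring)
          rw [hidx, hcard] at hdvd
          have h6' := Nat.le_of_dvd (Nat.factorial_pos 3) hdvd
          have : 2 ≤ 2 ^ A * q ^ b := le_trans (le_trans (by norm_num) (Nat.pow_le_pow_right (by norm_num) hA))
            (Nat.le_mul_of_pos_right _ (by positivity))
          norm_num [Nat.factorial] at h6'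
          omega
        · refine Or.inl (Or.inl ⟨hu1, M, ⟨hM, ?_, h3⟩, huM⟩)
          refine Nat.dvd_antisymm (Nat.Coprime.dvd_of_dvd_mul_right ?_ hMdvd) (hT h2)
          exact ((hq.out.coprime_iff_not_dvd.2 hqM).symm).pow_right b
      · refine Or.inl (Or.inr ⟨hu1, M, ⟨hM, ?_, h3⟩, huM⟩)
        have hd : Nat.card M ∣ q ^ b :=
          Nat.Coprime.dvd_of_dvd_mul_left (((Nat.prime_two.coprime_iff_not_dvd.2 h2).symm).pow_right A) hMdvd
        refine Nat.dvd_antisymm hd (hQ ?_)
        obtain ⟨i, -, hi⟩ := (Nat.dvd_prime_pow hq.out).1 hd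
        rcases Nat.eq_zero_or_pos i with rfl | hi0
        · exact absurd (by simpa using hi) hM1
        · rw [hi]; exact dvd_pow_self q hi0.ne'
    · obtain ⟨p, hp, hpZ⟩ := hO.exists_translate hx hx1 hG hz hM hM0 h6 hz2 hzP
      exact Or.inr ⟨p, hp, Set.mem_biUnion hpZ ⟨⟨_, huM, rfl⟩, fun e => hu1 (by simpa using e)⟩⟩
  have hY3 : Y.ncard ≤ 3 * Z.ncard := by
    set S : Set (Set G) := (fun p => {g : G | p * g * p⁻¹ ∈ Z}) '' ((P : Subgroup G) : Set G)
    have hS : S.ncard ≤ 3 := by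
      refine hO.ncard_translates hx hx1 _ fun p _ => Set.ext fun g => ?_
      simp only [Set.mem_ofPred_eq]
      have key : ∀ w, x * w * x⁻¹ ∈ Z ↔ w ∈ Z := fun w => by
        simp only [hZ, Set.mem_iUnion, Set.mem_sdiff, Set.mem_singleton_iff, exists_prop, conj_eq_one_iff,
          SetLike.mem_coe]
        exact exists_congr fun M => and_congr_right fun hM => and_congr_left fun _ =>
          (mem_normalizer_iff.1 (mem_zType.1 hM).1.inv w).symm
      rw [← key (p * g * p⁻¹)]
      have hc : ∀ w, p * x * w * (p * x)⁻¹ = x * (p * w * p⁻¹) * x⁻¹ := fun w => by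
        rw [show p * x = x * p from hO.comm ‹_› hx]; group
      rw [hc]
    have hYS : Y ⊆ ⋃ s ∈ (Set.toFinite S).toFinset, s := by
      rintro g ⟨p, hp, hg⟩
      exact Set.mem_biUnion (by simpa using ⟨p, hp, rfl⟩) hg
    refine (Set.ncard_le_ncard hYS).trans ((ncard_union_le _ _).trans ?_)
    refine (Finset.sum_le_card_nsmul _ _ Z.ncard fun s hs => ?_).trans ?_
    · obtain ⟨p, -, rfl⟩ := (Set.Finite.mem_toFinset _).1 hs
      exact Set.ncard_le_ncard_of_injOn (fun g => p * g * p⁻¹) (fun g hg => hg)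
        (fun a _ c _ e => mul_left_cancel (mul_right_cancel e)) (Set.toFinite _)
    · rw [smul_eq_mul, ← Set.ncard_eq_toFinset_card]
      exact Nat.mul_le_mul_right _ hS
  have hZle : Z.ncard ≤ ∑ M ∈ zType x z, (Nat.card M - 1) := by
    refine (ncard_union_le _ _).trans (le_of_eq (Finset.sum_congr rfl fun M _ => ?_))
    rw [Set.ncard_sdiff_singleton_of_mem (one_mem M), ← Nat.card_coe_set_eq]
    rfl
  have hP7 : Pin.ncard = 7 := by
    rw [hPin, Set.ncard_sdiff (by
      rintro g (rfl | rfl)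
      exacts [one_mem _, hx]) (Set.toFinite _), ← Nat.card_coe_set_eq,
      show Nat.card ((P : Subgroup G) : Set G) = 9 from hO.card, Set.ncard_pair (Ne.symm hx1)]
  refine (Set.ncard_le_ncard hsub).trans ((Set.ncard_union_le _ _).trans ?_)
  have h1 := Set.ncard_image_le (f := fun u => (u * x)⁻¹) (s := xUnion x (2 ^ A) ∪ xUnion x (q ^ b) ∪ Y)
    (Set.toFinite _)
  have h2 := Set.ncard_union_le (xUnion x (2 ^ A) ∪ xUnion x (q ^ b)) Y
  have h3 := Set.ncard_union_le (xUnion x (2 ^ A)) (xUnion x (q ^ b))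
  omega

end OneClass

end Cfsg.Agent.NineSection.One
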